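import Groth.Agent.Lefpen.H411.ConeDer

/-!
# Homogeneous fractions on the cone over a complete intersection

`Hm m` = images in `Q = Frac K[x]/(g)` of the forms of degree `m`; `RI I m` = homogeneous elements of degree `m` of
`A[1/x_i, i ∈ I]`.  Multiplicativity, monotonicity, stability under derivations, `p`-th roots.
-/

set_option autoImplicit false
universe u

open MvPolynomial

namespace Groth.Agent.Lefpen.H411.ConeR

open Groth.Agent.Lefpen.H725.Frame Groth.Agent.Lefpen.H718.ConeCM Groth.Agent.Lefpen.H718.Grade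
open Groth.Agent.Lefpen.H718.Reg Groth.Agent.Lefpen.H411.ConeDer

variable {K : Type u} [Field K] {N d : ℕ} (g : Fin d → MvPolynomial (Fin (N + 1)) K)
  (Q : Type u) [Field Q] [Algebra (A g) Q]

/-- Images of the forms of degree `m`. -/
noncomputable def Hm (m : ℤ) : AddSubgroup Q where
  carrier := {x | x = 0 ∨ ∃ D : ℕ, (D : ℤ) = m ∧ ∃ P : MvPolynomial (Fin (N + 1)) K,
    P.IsHomogeneous D ∧ x = toQ g Q P}
  zero_mem' := Or.inl rfl
  add_mem' := by
    rintro x y (rfl | ⟨D, hD, P, hP, rfl⟩) hy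
    · rwa [zero_add]
    · rcases hy with rfl | ⟨D', hD', P', hP', rfl⟩
      · rw [add_zero]; exact Or.inr ⟨D, hD, P, hP, rfl⟩
      · obtain rfl : D = D' := by exact_mod_cast hD.trans hD'.symm
        exact Or.inr ⟨D, hD, P + P', hP.add hP', (map_add _ _ _).symm⟩
  neg_mem' := by
    rintro x (rfl | ⟨D, hD, P, hP, rfl⟩)
    · exact Or.inl neg_zero
    · exact Or.inr ⟨D, hD, -P, hP.neg, (map_neg _ _).symm⟩

theorem mem_Hm {m : ℤ} {x : Q} : x ∈ Hm g Q m ↔ (x = 0 ∨ ∃ D : ℕ, (D : ℤ) = m ∧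
    ∃ P : MvPolynomial (Fin (N + 1)) K, P.IsHomogeneous D ∧ x = toQ g Q P) := Iff.rfl

theorem toQ_mem {D : ℕ} {P : MvPolynomial (Fin (N + 1)) K} (hP : P.IsHomogeneous D) : toQ g Q P ∈ Hm g Q D :=
  Or.inr ⟨D, rfl, P, hP, rfl⟩

theorem Hm_mul {m m' : ℤ} {x y : Q} (hx : x ∈ Hm g Q m) (hy : y ∈ Hm g Q m') : x * y ∈ Hm g Q (m + m') := by
  rcases hx with rfl | ⟨D, rfl, P, hP, rfl⟩
  · rw [zero_mul]; exact Or.inl rfl
  · rcases hy with rfl | ⟨D', rfl, P', hP', rfl⟩
    · rw [mul_zero]; exact Or.inl rfl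
    · exact Or.inr ⟨D + D', by push_cast; ring, P * P', hP.mul hP', (map_mul _ _ _).symm⟩

/-- The product of the variables in `I`. -/
noncomputable def xI (I : Finset (Fin (N + 1))) : Q := ∏ i ∈ I, toQ g Q (X i)

theorem xI_pow (I : Finset (Fin (N + 1))) (n : ℕ) :
    xI g Q I ^ n = toQ g Q ((∏ i ∈ I, X i) ^ n) := by
  rw [map_pow, map_prod]; rfl

theorem hom_xI (I : Finset (Fin (N + 1))) (n : ℕ) :
    ((∏ i ∈ I, X i : MvPolynomial (Fin (N + 1)) K) ^ n).IsHomogeneous (n * I.card) := by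
  have h1 : (∏ i ∈ I, X i : MvPolynomial (Fin (N + 1)) K).IsHomogeneous (∑ i ∈ I, 1) :=
    IsHomogeneous.prod _ _ _ fun i _ => isHomogeneous_X K i
  rw [Finset.sum_const, smul_eq_mul, mul_one] at h1
  rw [mul_comm n]
  exact h1.pow n

theorem xI_pow_mem (I : Finset (Fin (N + 1))) (n : ℕ) : xI g Q I ^ n ∈ Hm g Q (n * I.card) := by
  rw [xI_pow]
  have := toQ_mem g Q (hom_xI (K := K) I n)
  rwa [Nat.cast_mul] at this

/-- Homogeneous elements of degree `m` of `A[1/x_i, i ∈ I]`. -/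
noncomputable def RI (I : Finset (Fin (N + 1))) (m : ℤ) : AddSubgroup Q where
  carrier := {x | ∃ n : ℕ, xI g Q I ^ n * x ∈ Hm g Q (m + n * I.card)}
  zero_mem' := ⟨0, by rw [mul_zero]; exact AddSubgroup.zero_mem _⟩
  add_mem' := by
    rintro x y ⟨n, hx⟩ ⟨n', hy⟩
    refine ⟨n + n', ?_⟩
    have h1 := Hm_mul g Q (xI_pow_mem g Q I n') hx
    have h2 := Hm_mul g Q (xI_pow_mem g Q I n) hy
    rw [mul_add]
    refine AddSubgroup.add_mem _ ?_ ?_
    · convert h1 using 1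
      · congr 1; push_cast; ring
      · rw [pow_add]; ring
    · convert h2 using 1
      · congr 1; push_cast; ring
      · rw [pow_add]; ring
  neg_mem' := by
    rintro x ⟨n, hx⟩
    exact ⟨n, by rw [mul_neg]; exact AddSubgroup.neg_mem _ hx⟩

theorem mem_RI {I : Finset (Fin (N + 1))} {m : ℤ} {x : Q} :
    x ∈ RI g Q I m ↔ ∃ n : ℕ, xI g Q I ^ n * x ∈ Hm g Q (m + n * I.card) := Iff.rfl

theorem Hm_le_RI (I : Finset (Fin (N + 1))) (m : ℤ) : Hm g Q m ≤ RI g Q I m := fun x hx =>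
  ⟨0, by simpa using hx⟩

theorem RI_empty (m : ℤ) : RI g Q ∅ m = Hm g Q m := by
  refine le_antisymm (fun x hx => ?_) (Hm_le_RI g Q ∅ m)
  obtain ⟨n, hx⟩ := hx
  simpa [xI] using hx

theorem RI_empty_iff (m : ℤ) (x : Q) : x ∈ RI g Q ∅ m ↔ (x = 0 ∨ ∃ D : ℕ, (D : ℤ) = m ∧
    ∃ P : MvPolynomial (Fin (N + 1)) K, P.IsHomogeneous D ∧ x = toQ g Q P) := by
  rw [RI_empty]; rfl

theorem mem_R (I : Finset (Fin (N + 1))) (m : ℤ) (x : Q) :
    x ∈ RI g Q I m ↔ ∃ n : ℕ, (∏ i ∈ I, toQ g Q (X i)) ^ n * x ∈ RI g Q ∅ (m + n * I.card) := by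
  rw [mem_RI]
  simp only [RI_empty]
  rfl

theorem RI_mul {I : Finset (Fin (N + 1))} {m m' : ℤ} {x y : Q} (hx : x ∈ RI g Q I m) (hy : y ∈ RI g Q I m') :
    x * y ∈ RI g Q I (m + m') := by
  obtain ⟨n, hx⟩ := hx
  obtain ⟨n', hy⟩ := hy
  refine ⟨n + n', ?_⟩
  convert Hm_mul g Q hx hy using 1
  · congr 1; push_cast; ring
  · rw [pow_add]; ring

theorem RI_mono {I J : Finset (Fin (N + 1))} (m : ℤ) (h : I ⊆ J) : RI g Q I m ≤ RI g Q J m := by
  classical
  rintro x ⟨n, hx⟩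
  refine ⟨n, ?_⟩
  convert Hm_mul g Q (xI_pow_mem g Q (J \ I) n) hx using 1
  · have : (J.card : ℤ) = (J \ I).card + I.card := by
      exact_mod_cast (Finset.card_sdiff_add_card_eq_card h).symm
    rw [this]; congr 1; ring
  · have : xI g Q J = xI g Q (J \ I) * xI g Q I := (Finset.prod_sdiff h).symm
    rw [this, mul_pow]; ring

theorem one_mem (I : Finset (Fin (N + 1))) : (1 : Q) ∈ RI g Q I 0 := by
  refine Hm_le_RI g Q I 0 ?_
  have := toQ_mem g Q (isHomogeneous_one (Fin (N + 1)) K)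
  rwa [map_one] at this

theorem of_pow_mul {I : Finset (Fin (N + 1))} {m : ℤ} {x : Q} (n : ℕ)
    (h : xI g Q I ^ n * x ∈ RI g Q I (m + n * I.card)) : x ∈ RI g Q I m := by
  obtain ⟨n', h⟩ := h
  refine ⟨n' + n, ?_⟩
  convert h using 1
  · congr 1; push_cast; ring
  · rw [pow_add]; ring

theorem C_mem (c : K) (I : Finset (Fin (N + 1))) : toQ g Q (C c) ∈ RI g Q I 0 :=
  Hm_le_RI g Q I 0 (by simpa using toQ_mem g Q (isHomogeneous_C (Fin (N + 1)) c))

theorem X_mem (i : Fin (N + 1)) (I : Finset (Fin (N + 1))) : toQ g Q (X i) ∈ RI g Q I 1 :=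
  Hm_le_RI g Q I 1 (by simpa using toQ_mem g Q (isHomogeneous_X K i))

/-- The degrees of the coordinates. -/
def dg (a : Fin d → ℕ) (N : ℕ) : Cf a N ⊕ Fin (N + 1) → ℤ := Sum.elim (fun _ => 0) (fun _ => 1)

theorem z_mem {a : Fin d → ℕ} (F : Cf a N → K) (b : Cf a N ⊕ Fin (N + 1)) (I : Finset (Fin (N + 1))) :
    zz g Q F b ∈ RI g Q I (dg a N b) := by
  rcases b with e | i
  · exact C_mem g Q _ I
  · exact X_mem g Q i I

theorem isHomogeneous_monomial' {m : Fin (N + 1) →₀ ℕ} {n : ℕ} (c : K) (h : m.degree = n) :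
    (monomial m c).IsHomogeneous n := by
  refine isHomogeneous_monomial c ?_
  exact h

theorem g_mem {a : Fin d → ℕ} (ha : ∀ j, 1 ≤ a j) (hh : ∀ j, (g j).IsHomogeneous (a j)) (l : Fin d)
    (b : Cf a N ⊕ Fin (N + 1)) (I : Finset (Fin (N + 1))) : gg g Q l b ∈ RI g Q I (a l - dg a N b) := by
  refine Hm_le_RI g Q I _ ?_
  rcases b with e | i
  · change (if l = e.1 then toQ g Q (monomial e.2.1 1) else 0) ∈ Hm g Q ((a l : ℤ) - 0)
    split_ifs with h
    · subst h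
      rw [sub_zero]
      exact toQ_mem g Q (isHomogeneous_monomial' 1 e.2.2)
    · exact AddSubgroup.zero_mem _
  · change toQ g Q (pderiv i (g l)) ∈ Hm g Q ((a l : ℤ) - 1)
    have := toQ_mem g Q ((hh l).pderiv (i := i))
    rwa [Nat.cast_sub (ha l), Nat.cast_one] at this

theorem w_mem (α : Fin (N + 1)) (hx : toQ g Q (X α) ≠ 0) (n : ℕ) :
    (toQ g Q (X α) ^ n)⁻¹ ∈ RI g Q {α} (- n) := by
  refine ⟨n, ?_⟩
  have h1 : xI g Q {α} ^ n * (toQ g Q (X α) ^ n)⁻¹ = 1 := by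
    rw [xI, Finset.prod_singleton, mul_inv_cancel₀ (pow_ne_zero _ hx)]
  rw [h1, Finset.card_singleton, Nat.cast_one, mul_one, neg_add_cancel, ← RI_empty]
  exact one_mem g Q ∅

theorem der_Hm {a : Fin d → ℕ} [Fintype (Cf a N)] [DecidableEq (Cf a N)] (F : Frame K (Cf a N))
    (D : Derivation ℤ Q Q) (I : Finset (Fin (N + 1))) (m : ℤ)
    (hD : ∀ b, D (zz g Q F.z b) ∈ RI g Q I (m + dg a N b)) (m' : ℤ) (f : Q) (hf : f ∈ Hm g Q m') :
    D f ∈ RI g Q I (m + m') := by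
  rcases hf with rfl | ⟨n, rfl, P, hP, rfl⟩
  · rw [map_zero]; exact AddSubgroup.zero_mem _
  · rw [apply_mk g Q F D P]
    refine AddSubgroup.add_mem _ (AddSubgroup.sum_mem _ fun e _ => ?_) (AddSubgroup.sum_mem _ fun i _ => ?_)
    · have h1 := hD (Sum.inl e)
      have h2 := Hm_le_RI g Q I _ (toQ_mem g Q (isHomogeneous_cD hP (F.D e)))
      convert RI_mul g Q h1 h2 using 1
      simp [dg]
    · have h1 := hD (Sum.inr i)
      rcases Nat.eq_zero_or_pos n with rfl | hn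
      · have : P = C (coeff 0 P) := totalDegree_eq_zero_iff_eq_C.1 (Nat.le_zero.1 hP.totalDegree_le)
        rw [this, pderiv_C, map_zero, mul_zero]
        exact AddSubgroup.zero_mem _
      · have h2 := Hm_le_RI g Q I _ (toQ_mem g Q (hP.pderiv (i := i)))
        convert RI_mul g Q h1 h2 using 1
        rw [Nat.cast_sub hn]
        simp [dg]

theorem der_mem {a : Fin d → ℕ} [Fintype (Cf a N)] [DecidableEq (Cf a N)] (F : Frame K (Cf a N))
    (D : Derivation ℤ Q Q) (I : Finset (Fin (N + 1))) (m : ℤ)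
    (hD : ∀ b, D (zz g Q F.z b) ∈ RI g Q I (m + dg a N b)) (m' : ℤ) (f : Q) (hf : f ∈ RI g Q I m') :
    D f ∈ RI g Q I (m + m') := by
  obtain ⟨n, hn⟩ := hf
  refine of_pow_mul g Q n ?_
  have h1 := der_Hm g Q F D I m hD _ _ hn
  have h2 := der_Hm g Q F D I m hD _ _ (xI_pow_mem g Q I n)
  rw [Derivation.leibniz, smul_eq_mul, smul_eq_mul] at h1
  have h3 := AddSubgroup.sub_mem _ h1 (show f * D (xI g Q I ^ n) ∈ RI g Q I (m + (m' + n * I.card)) by
    convert RI_mul g Q (show f ∈ RI g Q I m' from ⟨n, hn⟩) h2 using 1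
    congr 1; ring)
  rw [add_sub_cancel_right] at h3
  convert h3 using 1
  congr 1; ring

section Root

open scoped Polynomial

variable {a : Fin d → ℕ} (hh : ∀ j, (g j).IsHomogeneous (a j))

/-- A root of a homogeneous element is homogeneous. -/
theorem homog_of_pow [IsDomain (A g)] (b : A g) (p D : ℕ) (hp : 0 < p) (hb : b ≠ 0)
    (h : Homog g hh D (b ^ p)) : ∃ D', p * D' = D ∧ Homog g hh D' b := by
  have hP0 : delta g hh b ≠ 0 := by
    rw [Ne, map_eq_zero_iff _ (delta_injective g hh)]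
    exact hb
  have hbp : b ^ p ≠ 0 := pow_ne_zero _ hb
  have h1 : (delta g hh b) ^ p = Polynomial.C (b ^ p) * Polynomial.X ^ D := by
    rw [← map_pow]; exact h
  have h2 : p * (delta g hh b).natDegree = D := by
    rw [← Polynomial.natDegree_pow, h1, Polynomial.natDegree_C_mul_X_pow _ _ hbp]
  have h3 : p * (delta g hh b).natTrailingDegree = D := by
    rw [← natTrailingDegree_pow _ hP0, h1, Polynomial.C_mul_X_pow_eq_monomial,
      Polynomial.natTrailingDegree_monomial hbp]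
  have h4 : (delta g hh b).natTrailingDegree = (delta g hh b).natDegree :=
    Nat.eq_of_mul_eq_mul_left hp (h3.trans h2.symm)
  refine ⟨(delta g hh b).natDegree, h2, ?_⟩
  have h5 : delta g hh b = Polynomial.C ((delta g hh b).coeff (delta g hh b).natDegree) *
      Polynomial.X ^ (delta g hh b).natDegree := by
    ext n
    rw [Polynomial.coeff_C_mul, Polynomial.coeff_X_pow]
    split_ifs with hn
    · rw [hn, mul_one]
    · rw [mul_zero]
      rcases lt_or_gt_of_ne hn with hlt | hgt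
      · exact Polynomial.coeff_eq_zero_of_lt_natTrailingDegree (h4 ▸ hlt)
      · exact Polynomial.coeff_eq_zero_of_natDegree_lt hgt
  have h6 : b = (delta g hh b).coeff (delta g hh b).natDegree := by
    have := congrArg (Polynomial.eval 1) h5
    rw [eval_delta] at this
    simpa using this
  rw [Homog]
  exact h5.trans (by rw [← h6])

include hh

/-- `p`-th roots on the charts, in terms of forms. -/
theorem root' [IsFractionRing (A g) Q] (hint : IsIntegrallyClosed (A g)) (p : ℕ) (hp : 0 < p) (m : ℤ) (x t : Q)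
    (ht : t ∈ Hm g Q 1) (ht0 : t ≠ 0) (h : ∃ n : ℕ, t ^ n * x ^ p ∈ Hm g Q (p * m + n)) :
    ∃ n : ℕ, t ^ n * x ∈ Hm g Q (m + n) := by
  have : IsDomain (A g) := (IsFractionRing.injective (A g) Q).isDomain _
  by_cases hx : x = 0
  · exact ⟨0, by rw [hx, mul_zero]; exact AddSubgroup.zero_mem _⟩
  obtain ⟨n, hn⟩ := h
  have htp : ∀ k : ℕ, t ^ k ∈ Hm g Q k := by
    intro k
    induction k with
    | zero => simpa using toQ_mem g Q (isHomogeneous_one (Fin (N + 1)) K)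
    | succ k ih =>
      rw [pow_succ]
      convert Hm_mul g Q ih ht using 1
      push_cast; rfl
  have h1 : (t ^ n * x) ^ p ∈ Hm g Q (p * (m + n)) := by
    convert Hm_mul g Q (htp ((p - 1) * n)) hn using 1
    · congr 1
      rw [Nat.cast_mul, Nat.cast_sub hp]; push_cast; ring
    · rw [← mul_assoc, ← pow_add, mul_pow, ← pow_mul]
      congr 2
      obtain ⟨q, rfl⟩ : ∃ q, p = q + 1 := ⟨p - 1, (Nat.sub_add_cancel hp).symm⟩
      simp only [Nat.add_sub_cancel]
      ring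
  rcases h1 with h1 | ⟨D, hD, P, hP, h1⟩
  · exact absurd h1 (pow_ne_zero _ (mul_ne_zero (pow_ne_zero _ ht0) hx))
  have h2 : IsIntegral (A g) (t ^ n * x) := by
    refine IsIntegral.of_pow hp ?_
    rw [h1]
    exact isIntegral_algebraMap
  obtain ⟨b, hb⟩ := (IsIntegrallyClosed.isIntegral_iff (K := Q)).1 h2
  have h3 : b ^ p = mk g P := by
    apply IsFractionRing.injective (A g) Q
    rw [map_pow, hb, h1]
    rfl
  have hb0 : b ≠ 0 := by
    rintro rfl
    rw [map_zero] at hb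
    exact mul_ne_zero (pow_ne_zero _ ht0) hx hb.symm
  obtain ⟨D', hD', h4⟩ := homog_of_pow g hh b p D hp hb0 (by rw [h3]; exact homog_mk g hh hP)
  obtain ⟨P', hP', h5⟩ := (homog_iff g hh).1 h4
  refine ⟨n, Or.inr ⟨D', ?_, P', hP', ?_⟩⟩
  · have : (p : ℤ) * D' = p * (m + n) := by rw [← hD, ← hD']; push_cast; ring
    exact mul_left_cancel₀ (by exact_mod_cast hp.ne') this
  · rw [← hb, ← h5]; rfl

theorem root [IsFractionRing (A g) Q] (hint : IsIntegrallyClosed (A g)) (p : ℕ) (hp : 0 < p) (α : Fin (N + 1))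
    (hx : toQ g Q (X α) ≠ 0) (m : ℤ) (x : Q) (h : x ^ p ∈ RI g Q {α} (p * m)) : x ∈ RI g Q {α} m := by
  have h1 : xI g Q {α} = toQ g Q (X α) := Finset.prod_singleton _ _
  have h2 : toQ g Q (X α) ∈ Hm g Q 1 := by simpa using toQ_mem g Q (isHomogeneous_X K α)
  obtain ⟨n, hn⟩ := h
  obtain ⟨n', hn'⟩ := root' g Q hh hint p hp m x _ h2 hx ⟨n, by simpa [h1] using hn⟩
  exact ⟨n', by simpa [h1] using hn'⟩

end Root

end Groth.Agent.Lefpen.H411.ConeR
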