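import Groth.Agent.Lefpen.H411.Jacobson
import Groth.Agent.Lefpen.H725.Frame
import Groth.Agent.Ega41.Cartier
import Mathlib.NumberTheory.Wilson
import Mathlib.FieldTheory.Perfect

/-!
# Cartier theory on a field with a frame (finite `p`-basis)
-/

set_option autoImplicit false

open Groth.Agent.Lefpen.H725.Frame

namespace Groth.Agent.Lefpen.H411.Cartier

open Groth.Agent.Ega41

/-! ## One derivation -/

section One

variable {Q : Type*} [Field Q] (p : ℕ) [hp : Fact p.Prime] [CharP Q p] (D : Derivation ℤ Q Q)

include hp in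
theorem factorial_eq : ((p - 1).factorial : Q) = -1 := by
  have h := ZMod.wilsons_lemma p
  have h2 : ((ZMod.castHom dvd_rfl Q) (((p - 1).factorial : ℕ) : ZMod p)) = ZMod.castHom dvd_rfl Q (-1) := by
    rw [h]
  rw [map_natCast, map_neg, map_one] at h2
  exact h2

omit [CharP Q p] hp in
/-- `D^k (z^n)` for `D z = 1`. -/
theorem iterate_pow (z : Q) (hz : D z = 1) (n k : ℕ) :
    D^[k] (z ^ n) = (n.descFactorial k : Q) * z ^ (n - k) := by
  induction k generalizing n with
  | zero => simp
  | succ k ih =>
    rw [Function.iterate_succ_apply', ih, Derivation.leibniz, Derivation.map_natCast,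
      Derivation.leibniz_pow, hz, Nat.descFactorial_succ]
    simp only [smul_eq_mul, mul_zero, add_zero, mul_one, nsmul_eq_mul, Nat.cast_mul]
    rw [Nat.sub_add_eq]
    ring

omit [CharP Q p] hp in
/-- constants come out. -/
theorem iterate_const_mul (c : Q) (hc : D c = 0) (n : ℕ) (x : Q) : D^[n] (c * x) = c * D^[n] x := by
  induction n generalizing x with
  | zero => rfl
  | succ n ih =>
    rw [Function.iterate_succ_apply, Function.iterate_succ_apply, Derivation.leibniz, hc, smul_zero, add_zero,
      smul_eq_mul, ih]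

theorem iterate_top (z : Q) (hz : D z = 1) (c : Q) (hc : D c = 0) :
    D^[p - 1] (c * z ^ (p - 1)) = - c := by
  rw [iterate_const_mul D c hc, iterate_pow D z hz, Nat.descFactorial_self, factorial_eq p, Nat.sub_self]
  simp

omit hp in
theorem pow_const (b : Q) : D (b ^ p) = 0 := by
  rw [Derivation.leibniz_pow]
  simp

/-- Jacobson's formula for the logarithmic derivative: `D^{p-1}(Df/f) = -(Df/f)^p` if `D^p = 0`. -/
theorem dlog (hD : ∀ x, D^[p] x = 0) (f : Q) (hf : f ≠ 0) :
    D^[p - 1] (D f / f) = - (D f / f) ^ p := by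
  have h1 : ∀ n (y : Q), (fun y => D y + (-(D f / f)) * y)^[n] (f * y) = f * D^[n] y := by
    intro n
    induction n with
    | zero => intro y; rfl
    | succ n ih =>
      intro y
      rw [Function.iterate_succ_apply, Function.iterate_succ_apply, ← ih]
      congr 1
      simp only [Derivation.leibniz, smul_eq_mul]
      field_simp
      ring
  have h2 := Jacobson.jacobson D (-(D f / f)) p (f * f⁻¹)
  rw [h1, mul_inv_cancel₀ hf, hD, hD, mul_zero, zero_add, mul_one] at h2
  have h3 : D^[p - 1] (-(D f / f)) = - D^[p - 1] (D f / f) := by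
    have := NagIter.iterate_smul (R := ℤ) D (p - 1) (-1) (D f / f)
    rw [neg_one_smul, neg_one_smul] at this
    exact this
  have h4 : (-(D f / f)) ^ p = - (D f / f) ^ p := by
    rw [neg_pow]
    rcases hp.out.eq_two_or_odd' with h | h
    · subst h
      have h2' : (2 : Q) = 0 := by
        have := CharP.cast_eq_zero Q 2
        simpa using this
      have : (1 : Q) = -1 := by
        rw [eq_neg_iff_add_eq_zero, one_add_one_eq_two]
        exact h2'
      rw [neg_one_sq]
      conv_lhs => rw [this]
      ring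
    · rw [h.neg_one_pow]
      ring
  rw [h3, h4] at h2
  have h5 : D^[p - 1] (D f / f) + (D f / f) ^ p = 0 := by
    rw [← neg_eq_zero, neg_add, h2]
  exact eq_neg_of_add_eq_zero_left h5

/-- Hochschild's formula `D^{p-1}(x^{p-1} D x) = -(D x)^p` if `D^p = 0`. -/
theorem hochschild (hD : ∀ x, D^[p] x = 0) (x : Q) :
    D^[p - 1] (x ^ (p - 1) * D x) = - (D x) ^ p := by
  by_cases hx : x = 0
  · subst hx
    simp only [map_zero, mul_zero]
    rw [zero_pow hp.out.ne_zero, neg_zero]
    have := NagIter.iterate_smul (R := ℤ) D (p - 1) 0 (0 : Q)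
    rw [zero_smul, zero_smul] at this
    exact this
  · have h1 : x ^ (p - 1) * D x = x ^ p * (D x / x) := by
      obtain ⟨q, hq⟩ := Nat.exists_eq_succ_of_ne_zero hp.out.ne_zero
      rw [hq]
      simp only [Nat.succ_eq_add_one, Nat.add_sub_cancel, pow_succ]
      field_simp
    rw [h1, iterate_const_mul D _ (pow_const p D x), dlog p D hD x hx, div_pow]
    field_simp

omit [CharP Q p] hp in
/-- Integration by parts: `x` is a derivative if `D^{n+1} x = 0`, `n + 1 < p`, and `D z = 1`. -/
theorem exists_int (z : Q) (hz : D z = 1) (n : ℕ) (hn : ((n + 1).factorial : Q) ≠ 0) (x : Q)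
    (hx : D^[n + 1] x = 0) :
    D (∑ k ∈ Finset.range (n + 1), (-1) ^ k * (z ^ (k + 1) / ((k + 1).factorial : Q)) * D^[k] x) = x := by
  have hf : ∀ k, k ≤ n + 1 → (k.factorial : Q) ≠ 0 := by
    intro k hk h
    obtain ⟨c, hc⟩ := Nat.factorial_dvd_factorial hk
    apply hn
    rw [hc, Nat.cast_mul, h, zero_mul]
  have key : ∀ k, k + 1 ≤ n + 1 →
      D ((-1) ^ k * (z ^ (k + 1) / ((k + 1).factorial : Q)) * D^[k] x) =
        (-1) ^ k * (z ^ k / (k.factorial : Q)) * D^[k] x -
          (-1) ^ (k + 1) * (z ^ (k + 1) / ((k + 1).factorial : Q)) * D^[k + 1] x := by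
    intro k hk
    have h1 := hf _ hk
    have h2 := hf k (by omega)
    have hD1 : D ((-1) ^ k) = 0 := by
      rw [Derivation.leibniz_pow]
      simp
    have hD2 : D (z ^ (k + 1) / ((k + 1).factorial : Q)) = z ^ k / (k.factorial : Q) := by
      rw [div_eq_mul_inv, Derivation.leibniz, Derivation.leibniz_inv, Derivation.map_natCast,
        Derivation.leibniz_pow, hz]
      simp only [smul_eq_mul, mul_zero, zero_add, nsmul_eq_mul, mul_one, smul_zero,
        Nat.add_sub_cancel]
      rw [Nat.factorial_succ] at h1 ⊢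
      push_cast at h1 ⊢
      have h3 : ((k : Q) + 1) ≠ 0 := left_ne_zero_of_mul h1
      field_simp
    rw [Derivation.leibniz, Derivation.leibniz, hD1, hD2, Function.iterate_succ_apply' (⇑D) k x]
    simp only [smul_eq_mul, mul_zero, add_zero]
    ring
  rw [map_sum, Finset.sum_congr rfl (fun k hk => key k (Finset.mem_range.1 hk)), Finset.sum_range_sub']
  rw [hx]
  simp

end One

/-! ## Frames -/

section Fr

variable {Q : Type*} [Field Q] {ι : Type*} [DecidableEq ι] [Fintype ι]

omit [DecidableEq ι] in
theorem sum_apply (d : ι → Derivation ℤ Q Q) (x : Q) : (∑ i, d i) x = ∑ i, d i x := by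
  have h := congrFun (map_sum (Derivation.coeFnAddMonoidHom (R := ℤ) (A := Q) (M := Q)) d Finset.univ) x
  rw [Finset.sum_apply] at h
  exact h

theorem expand (F : Frame Q ι) (E : Derivation ℤ Q Q) : E = ∑ i, E (F.z i) • F.D i := by
  rw [← sub_eq_zero]
  apply F.sep
  intro j
  rw [Derivation.sub_apply, sum_apply, sub_eq_zero]
  simp only [Derivation.smul_apply, F.dual, smul_eq_mul, mul_ite, mul_one, mul_zero]
  rw [Finset.sum_ite_eq']
  simp

theorem expand_apply (F : Frame Q ι) (E : Derivation ℤ Q Q) (x : Q) :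
    E x = ∑ i, E (F.z i) * F.D i x := by
  conv_lhs => rw [expand F E]
  rw [sum_apply]
  rfl

omit [Fintype ι] in
theorem comm (F : Frame Q ι) (i j : ι) (x : Q) : F.D i (F.D j x) = F.D j (F.D i x) := by
  have h0 : ⁅F.D i, F.D j⁆ = 0 := by
    apply F.sep
    intro k
    rw [Derivation.commutator_apply, F.dual, F.dual]
    split_ifs <;> simp
  have := DFunLike.congr_fun h0 x
  rwa [Derivation.commutator_apply, Derivation.zero_apply, sub_eq_zero] at this

omit [Fintype ι] in
theorem iter_p (F : Frame Q ι) (p : ℕ) [Fact p.Prime] [CharP Q p] (i : ι) (x : Q) : (F.D i)^[p] x = 0 := by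
  have hp : p.Prime := Fact.out
  have h0 : NagIter.iterP p (F.D i) = 0 := by
    apply F.sep
    intro k
    rw [NagIter.iterP_apply]
    obtain ⟨q, hq⟩ : ∃ q, p = q + 2 := ⟨p - 2, by have := hp.two_le; omega⟩
    rw [hq, Function.iterate_add_apply, Function.iterate_succ_apply, Function.iterate_one, F.dual]
    have h1 : F.D i (if i = k then 1 else 0) = 0 := by split_ifs <;> simp
    rw [h1]
    have := NagIter.iterate_smul (R := ℤ) (F.D i) q 0 (0 : Q)
    rw [zero_smul, zero_smul] at this
    exact this
  have := DFunLike.congr_fun h0 x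
  rwa [NagIter.iterP_apply] at this

/-- common constants are p-th powers -/
theorem const (F : Frame Q ι) (p : ℕ) [Fact p.Prime] [CharP Q p] (x : Q) (hx : ∀ i, F.D i x = 0) :
    ∃ y, y ^ p = x := by
  by_contra hcon
  push Not at hcon
  have h1 := Groth.Agent.Ega41.Cartier.D_ne_zero p x hcon
  obtain ⟨φ, hφ⟩ := Module.Projective.exists_dual_ne_zero Q h1
  apply hφ
  change (φ.compDer (KaehlerDifferential.D ℤ Q)) x = 0
  rw [expand_apply F]
  exact Finset.sum_eq_zero fun i _ => by rw [hx, mul_zero]

/-- The Cartier constants `-D_i^{p-1} a_i` of a closed form are constants. -/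
theorem cartier_const (F : Frame Q ι) (p : ℕ) [Fact p.Prime] [CharP Q p] (a : ι → Q)
    (h : ∀ i j, F.D i (a j) = F.D j (a i)) (i j : ι) : F.D j ((F.D i)^[p - 1] (a i)) = 0 := by
  have h1 : ∀ n (x : Q), F.D j ((F.D i)^[n] x) = (F.D i)^[n] (F.D j x) := by
    intro n
    induction n with
    | zero => intro x; rfl
    | succ n ih =>
      intro x
      rw [Function.iterate_succ_apply, ih, comm F j i, ← Function.iterate_succ_apply]
  have hp : p.Prime := Fact.out
  have h2 : p - 1 + 1 = p := Nat.sub_add_cancel hp.one_le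
  rw [h1, h j i, ← Function.iterate_succ_apply, Nat.succ_eq_add_one, h2, iter_p]

/-- A closed form with vanishing Cartier constants is exact. -/
theorem exact (F : Frame Q ι) (p : ℕ) [Fact p.Prime] [CharP Q p] (a : ι → Q)
    (h : ∀ i j, F.D i (a j) = F.D j (a i)) (h0 : ∀ i, (F.D i)^[p - 1] (a i) = 0) :
    ∃ g : Q, ∀ i, F.D i g = a i := by
  classical
  have hp : p.Prime := Fact.out
  have key : ∀ S : Finset ι, ∃ g : Q, ∀ i ∈ S, F.D i g = a i := by
    intro S
    induction S using Finset.induction_on with
    | empty => exact ⟨0, by simp⟩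
    | insert j S hj ih =>
      obtain ⟨g, hg⟩ := ih
      obtain ⟨n, hn⟩ : ∃ n, p = n + 2 := ⟨p - 2, by have := hp.two_le; omega⟩
      have hfac : ((n + 1).factorial : Q) ≠ 0 := by
        have := factorial_eq (Q := Q) p
        rw [hn] at this
        change ((n + 1).factorial : Q) = -1 at this
        rw [this]
        exact neg_ne_zero.2 one_ne_zero
      have hx0 : (F.D j)^[n + 1] (a j - F.D j g) = 0 := by
        have h1 : (F.D j)^[n + 1] (a j) = 0 := by
          have := h0 j
          rw [hn] at this
          exact this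
        have h2 : (F.D j)^[n + 1] (F.D j g) = 0 := by
          rw [← Function.iterate_succ_apply]
          have := iter_p F p j g
          rw [hn] at this
          exact this
        rw [sub_eq_add_neg, NagIter.iterate_add, h1, zero_add]
        have := NagIter.iterate_smul (R := ℤ) (F.D j) (n + 1) (-1) (F.D j g)
        rw [neg_one_smul, neg_one_smul, h2, neg_zero] at this
        exact this
      have hz : F.D j (F.z j) = 1 := by rw [F.dual, if_pos rfl]
      refine ⟨g + ∑ k ∈ Finset.range (n + 1),
        (-1) ^ k * (F.z j ^ (k + 1) / ((k + 1).factorial : Q)) * (F.D j)^[k] (a j - F.D j g), ?_⟩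
      intro i hi
      rw [map_add]
      rcases eq_or_ne i j with rfl | hij
      · rw [exists_int (F.D i) (F.z i) hz n hfac _ hx0]
        ring
      · have hiS : i ∈ S := (Finset.mem_insert.1 hi).resolve_left hij
        rw [hg i hiS, map_sum, Finset.sum_eq_zero, add_zero]
        intro k _
        have h1 : ∀ n (x : Q), F.D i ((F.D j)^[n] x) = (F.D j)^[n] (F.D i x) := by
          intro n
          induction n with
          | zero => intro x; rfl
          | succ n ih =>
            intro x
            rw [Function.iterate_succ_apply, ih, comm F i j, ← Function.iterate_succ_apply]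
        have h3 : F.D i (a j - F.D j g) = 0 := by
          rw [map_sub, h i j, comm F i j, hg i hiS, sub_self]
        have h4 : F.D i ((F.D j)^[k] (a j - F.D j g)) = 0 := by
          rw [h1, h3]
          have := NagIter.iterate_smul (R := ℤ) (F.D j) k 0 (0 : Q)
          rw [zero_smul, zero_smul] at this
          exact this
        have hzi : F.D i (F.z j) = 0 := by rw [F.dual, if_neg hij]
        have h5 : F.D i ((-1) ^ k) = 0 := by
          rw [Derivation.leibniz_pow]
          simp
        rw [Derivation.leibniz, h4, Derivation.leibniz, h5, div_eq_mul_inv, Derivation.leibniz,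
          Derivation.leibniz_inv, Derivation.map_natCast, Derivation.leibniz_pow, hzi]
        simp
  obtain ⟨g, hg⟩ := key Finset.univ
  exact ⟨g, fun i => hg i (Finset.mem_univ i)⟩

/-- Cartier decomposition of a closed 1-form -/
theorem decomp (F : Frame Q ι) (p : ℕ) [Fact p.Prime] [CharP Q p] (a : ι → Q)
    (h : ∀ i j, F.D i (a j) = F.D j (a i)) :
    ∃ (b : ι → Q) (g : Q), ∀ i, a i = b i ^ p * F.z i ^ (p - 1) + F.D i g := by
  have h1 : ∀ i, ∃ b : Q, b ^ p = - (F.D i)^[p - 1] (a i) := by
    intro i
    apply const F p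
    intro j
    rw [map_neg, cartier_const F p a h, neg_zero]
  choose b hb using h1
  have hz : ∀ i, F.D i (F.z i) = 1 := fun i => by rw [F.dual, if_pos rfl]
  obtain ⟨g, hg⟩ := exact F p (fun i => a i - b i ^ p * F.z i ^ (p - 1)) (by
    intro i j
    simp only [map_sub, h i j, Derivation.leibniz, pow_const, Derivation.leibniz_pow, F.dual]
    by_cases hij : i = j
    · subst hij
      rfl
    · rw [if_neg hij, if_neg (Ne.symm hij)]
      simp) (by
    intro i
    simp only [sub_eq_add_neg, ← neg_mul]
    rw [NagIter.iterate_add, iterate_top p (F.D i) (F.z i) (hz i) _ (by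
      rw [map_neg, pow_const, neg_zero]), hb]
    ring)
  exact ⟨b, g, fun i => by rw [hg]; ring⟩

omit [Fintype ι] in
/-- the coefficients are computed by iterated derivatives -/
theorem coeff (F : Frame Q ι) (p : ℕ) [Fact p.Prime] [CharP Q p] (b g : Q) (i : ι) :
    (F.D i)^[p - 1] (b ^ p * F.z i ^ (p - 1) + F.D i g) = - b ^ p := by
  have hp : p.Prime := Fact.out
  have hz : F.D i (F.z i) = 1 := by rw [F.dual, if_pos rfl]
  rw [NagIter.iterate_add, iterate_top p (F.D i) (F.z i) hz _ (pow_const p _ b),
    ← Function.iterate_succ_apply, Nat.succ_eq_add_one, Nat.sub_add_cancel hp.one_le, iter_p, add_zero]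

omit [Fintype ι] in
/-- the Cartier operator fixes dlog -/
theorem dlog_coeff (F : Frame Q ι) (p : ℕ) [Fact p.Prime] [CharP Q p] (f : Q) (hf : f ≠ 0) (i : ι) :
    (F.D i)^[p - 1] (F.D i f / f) = - (F.D i f / f) ^ p :=
  dlog p (F.D i) (iter_p F p i) f hf

/-- independence of the frame: eta a closed form, b, b' its Cartier coefficients in two frames -/
theorem change {ι' : Type*} [DecidableEq ι'] [Fintype ι'] (F : Frame Q ι) (F' : Frame Q ι') (p : ℕ)
    [Fact p.Prime] [CharP Q p] (η : Derivation ℤ Q Q →ₗ[Q] Q)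
    (b : ι → Q) (g : Q) (hb : ∀ i, η (F.D i) = b i ^ p * F.z i ^ (p - 1) + F.D i g)
    (b' : ι' → Q) (g' : Q) (hb' : ∀ i, η (F'.D i) = b' i ^ p * F'.z i ^ (p - 1) + F'.D i g') (j : ι') :
    b' j = ∑ i, F'.D j (F.z i) * b i := by
  have hp : p.Prime := Fact.out
  have h1 : η (F'.D j) = ∑ i, F'.D j (F.z i) * η (F.D i) := by
    conv_lhs => rw [expand F (F'.D j), map_sum]
    simp
  have h2 : b' j ^ p * F'.z j ^ (p - 1) + F'.D j g' =
      (∑ i, b i ^ p * (F.z i ^ (p - 1) * F'.D j (F.z i))) + F'.D j g := by
    rw [← hb', h1, expand_apply F (F'.D j) g, ← Finset.sum_add_distrib]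
    exact Finset.sum_congr rfl fun i _ => by rw [hb]; ring
  have h3 := congrArg ((F'.D j)^[p - 1]) h2
  have hsum : ∀ (s : Finset ι) (w : ι → Q),
      (F'.D j)^[p - 1] (∑ i ∈ s, w i) = ∑ i ∈ s, (F'.D j)^[p - 1] (w i) := by
    intro s w
    classical
    induction s using Finset.induction_on with
    | empty =>
      have := NagIter.iterate_smul (R := ℤ) (F'.D j) (p - 1) 0 (0 : Q)
      rw [zero_smul, zero_smul] at this
      simpa using this
    | insert a s ha ih => rw [Finset.sum_insert ha, Finset.sum_insert ha, NagIter.iterate_add, ih]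
  have hg0 : (F'.D j)^[p - 1] (F'.D j g) = 0 := by
    rw [← Function.iterate_succ_apply, Nat.succ_eq_add_one, Nat.sub_add_cancel hp.one_le, iter_p]
  rw [coeff, NagIter.iterate_add, hg0, add_zero, hsum] at h3
  have h4 : ∀ i, (F'.D j)^[p - 1] (b i ^ p * (F.z i ^ (p - 1) * F'.D j (F.z i))) =
      - (F'.D j (F.z i) * b i) ^ p := by
    intro i
    rw [iterate_const_mul _ _ (pow_const p _ _), hochschild p (F'.D j) (iter_p F' p j)]
    ring
  rw [Finset.sum_congr rfl (fun i _ => h4 i), Finset.sum_neg_distrib, neg_inj] at h3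
  haveI : ExpChar Q p := ExpChar.prime hp
  apply frobenius_inj Q p
  rw [map_sum]
  simpa [frobenius_def] using h3

/-- a closed form fixed by the Cartier operator is dlog f -/
theorem exists_dlog (F : Frame Q ι) (p : ℕ) [Fact p.Prime] [CharP Q p] (a : ι → Q)
    (h : ∀ i j, F.D i (a j) = F.D j (a i)) (hC : ∀ i, (F.D i)^[p - 1] (a i) = - (a i) ^ p) :
    ∃ f : Q, f ≠ 0 ∧ ∀ i, F.D i f = a i * f := by
  classical
  have hp : p.Prime := Fact.out
  let T : ι → Module.End ℤ Q := fun i => (F.D i : Q →ₗ[ℤ] Q) + LinearMap.mulLeft ℤ (- a i)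
  have hT : ∀ i x, T i x = F.D i x + (- a i) * x := fun i x => rfl
  have hTc : ∀ i j x, T i (T j x) = T j (T i x) := by
    intro i j x
    simp only [hT, map_add, Derivation.leibniz, map_neg, smul_eq_mul, comm F i j x, h i j]
    ring
  have hneg : ∀ i, (F.D i)^[p - 1] (- a i) = - (F.D i)^[p - 1] (a i) := by
    intro i
    have := NagIter.iterate_smul (R := ℤ) (F.D i) (p - 1) (-1) (a i)
    rw [neg_one_smul, neg_one_smul] at this
    exact this
  have hnegp : ∀ x : Q, (- x) ^ p = - x ^ p := by
    intro x
    haveI : ExpChar Q p := ExpChar.prime hp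
    have := map_neg (frobenius Q p) x
    simpa [frobenius_def] using this
  have hTp : ∀ i x, (T i ^ p) x = 0 := by
    intro i x
    have h1 := Jacobson.jacobson (F.D i) (- a i) p x
    rw [iter_p, hneg, hC, hnegp, zero_add] at h1
    have h2 : ∀ n (x : Q), (T i ^ n) x = (fun y => F.D i y + (- a i) * y)^[n] x := by
      intro n
      induction n with
      | zero => intro x; rfl
      | succ n ih => intro x; rw [pow_succ, Module.End.mul_apply, ih, Function.iterate_succ_apply]; rfl
    rw [h2, h1]
    ring
  have hTcn : ∀ i j n x, T i ((T j ^ n) x) = (T j ^ n) (T i x) := by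
    intro i j n
    induction n with
    | zero => intro x; rfl
    | succ n ih => intro x; rw [pow_succ, Module.End.mul_apply, Module.End.mul_apply, ih, hTc]
  have key : ∀ S : Finset ι, ∃ f : Q, f ≠ 0 ∧ ∀ i ∈ S, T i f = 0 := by
    intro S
    induction S using Finset.induction_on with
    | empty => exact ⟨1, one_ne_zero, by simp⟩
    | insert j S hj ih =>
      obtain ⟨f, hf, hfS⟩ := ih
      have hex : ∃ n, (T j ^ n) f = 0 := ⟨p, hTp j f⟩
      obtain ⟨m, hm⟩ := Nat.exists_eq_succ_of_ne_zero (n := Nat.find hex) (by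
        intro h0
        have := Nat.find_spec hex
        rw [h0, pow_zero] at this
        exact hf this)
      refine ⟨(T j ^ m) f, Nat.find_min hex (by omega), ?_⟩
      intro i hi
      rcases Finset.mem_insert.1 hi with rfl | hi
      · rw [← Module.End.mul_apply, ← pow_succ', ← Nat.succ_eq_add_one, ← hm]
        exact Nat.find_spec hex
      · rw [hTcn, hfS i hi, map_zero]
  obtain ⟨f, hf, hfS⟩ := key Finset.univ
  refine ⟨f, hf, fun i => ?_⟩
  have := hfS i (Finset.mem_univ i)
  rw [hT, neg_mul, ← sub_eq_add_neg, sub_eq_zero] at this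
  exact this

end Fr

end Groth.Agent.Lefpen.H411.Cartier
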