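import Groth.Agent.Lefpen.H725.Frame
import Groth.Agent.Lefpen.H411.Cartier
import Groth.Agent.Lefpen.H718.Grade
import Groth.Agent.Lefpen.H718.Minor
import Mathlib.Algebra.TrivSqZeroExt.Basic
import Mathlib.RingTheory.MvPolynomial.EulerIdentity

/-!
# Absolute derivations of the function field of the cone over a complete intersection

`K` a field with a frame `F` given by the coefficients of the equations `g j` (homogeneous of degree `a j`),
`Q = Frac K[x]/(g)`, `π : K[x] → Q`.

* `apply_poly`: `D (π P) = ∑ e, D c_e * π (P^{∂_e}) + ∑ i, D x_i * π (∂P/∂x_i)`;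
* `der_ι`, `tangent`, `ext`, `lift`: derivations of `Q` are the vectors killed by the total differentials of the
  equations;
* `exists_T`: commuting lifts of the derivations of `K` with vanishing `p`-th powers;
* `euler`, `euler_tangent`.
-/

set_option autoImplicit false
universe u

open MvPolynomial

namespace Groth.Agent.Lefpen.H411.ConeDer

open Groth.Agent.Lefpen.H725.Frame Groth.Agent.Lefpen.H718.ConeCM Groth.Agent.Lefpen.H718.Grade
open Groth.Agent.Lefpen.H718.Reg

section Coeff

variable {K : Type*} [Field K] {σ : Type*}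

/-- A derivation applied to the coefficients of a polynomial. -/
noncomputable def cD (δ : Derivation ℤ K K) (P : MvPolynomial σ K) : MvPolynomial σ K :=
  ∑ m ∈ P.support, monomial m (δ (coeff m P))

theorem coeff_cD (δ : Derivation ℤ K K) (P : MvPolynomial σ K) (m : σ →₀ ℕ) :
    coeff m (cD δ P) = δ (coeff m P) := by
  classical
  unfold cD
  rw [coeff_sum]
  simp only [coeff_monomial]
  rw [Finset.sum_ite_eq']
  split_ifs with h
  · rfl
  · rw [notMem_support_iff] at h
    rw [h, map_zero]

theorem cD_add (δ : Derivation ℤ K K) (P P' : MvPolynomial σ K) : cD δ (P + P') = cD δ P + cD δ P' := by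
  ext m
  rw [coeff_cD, coeff_add, coeff_add, coeff_cD, coeff_cD, map_add]

theorem cD_monomial (δ : Derivation ℤ K K) (m : σ →₀ ℕ) (c : K) :
    cD δ (monomial m c : MvPolynomial σ K) = monomial m (δ c) := by
  classical
  ext n
  rw [coeff_cD, coeff_monomial, coeff_monomial]
  split_ifs
  · rfl
  · rw [map_zero]

theorem cD_C (δ : Derivation ℤ K K) (c : K) : cD δ (C c : MvPolynomial σ K) = C (δ c) := cD_monomial δ 0 c

theorem cD_X (δ : Derivation ℤ K K) (i : σ) : cD δ (X i : MvPolynomial σ K) = 0 := by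
  have : (X i : MvPolynomial σ K) = monomial (Finsupp.single i 1) 1 := rfl
  rw [this, cD_monomial, Derivation.map_one_eq_zero, monomial_zero]

theorem cD_mul_X (δ : Derivation ℤ K K) (P : MvPolynomial σ K) (i : σ) : cD δ (P * X i) = cD δ P * X i := by
  classical
  ext m
  rw [coeff_cD, coeff_mul_X', coeff_mul_X']
  split_ifs
  · rw [coeff_cD]
  · rw [map_zero]

theorem isHomogeneous_cD {D : ℕ} {P : MvPolynomial σ K} (hP : P.IsHomogeneous D) (δ : Derivation ℤ K K) :
    (cD δ P).IsHomogeneous D := by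
  intro m hm
  rw [coeff_cD] at hm
  exact hP fun h => hm (by rw [h, map_zero])

end Coeff

section General

variable {K Q : Type*} [Field K] [Field Q] {σ C' : Type*} [Fintype C'] [DecidableEq C'] [Fintype σ]
  (π : MvPolynomial σ K →+* Q) (F : Frame K C')

omit [Fintype σ] in
/-- A derivation of `Q` on constants. -/
theorem der_C (D : Derivation ℤ Q Q) (c : K) :
    D (π (C c)) = ∑ e, D (π (C (F.z e))) * π (C (F.D e c)) := by
  let _ : Algebra K Q := (π.comp C).toAlgebra
  have hsm : ∀ (c : K) (x : Q), c • x = π (C c) * x := fun c x => rfl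
  have key : ∀ φ : Q →ₗ[K] K, φ (D (π (C c)) - ∑ e, D (π (C (F.z e))) * π (C (F.D e c))) = 0 := by
    intro φ
    let E : Derivation ℤ K K := Derivation.mk'
      ((AddMonoidHom.mk' (fun c : K => φ (D (π (C c)) - ∑ e, D (π (C (F.z e))) * π (C (F.D e c)))) (by
        intro a b
        rw [← map_add]
        congr 1
        simp only [map_add, mul_add, Finset.sum_add_distrib]
        ring)).toIntLinearMap) (by
        intro a b
        change φ _ = a • φ _ + b • φ _
        rw [← map_smul, ← map_smul, ← map_add]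
        congr 1
        simp only [hsm, map_mul, Derivation.leibniz, smul_eq_mul, map_add, mul_add, mul_sub, Finset.mul_sum,
          Finset.sum_add_distrib]
        have h1 : ∀ a b : K, ∑ x, D (π (C (F.z x))) * (π (C a) * π (C (F.D x b))) =
            ∑ i, π (C a) * (D (π (C (F.z i))) * π (C (F.D i b))) := fun a b =>
          Finset.sum_congr rfl fun i _ => by ring
        rw [h1, h1]
        ring)
    have hE : E = 0 := F.sep _ fun i => by
      change φ (D (π (C (F.z i))) - ∑ e, D (π (C (F.z e))) * π (C (F.D e (F.z i)))) = 0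
      have : ∑ e, D (π (C (F.z e))) * π (C (F.D e (F.z i))) = D (π (C (F.z i))) := by
        rw [Finset.sum_eq_single i]
        · rw [F.dual, if_pos rfl, map_one, map_one, mul_one]
        · intro e _ he
          rw [F.dual, if_neg he, map_zero, map_zero, mul_zero]
        · intro h; exact absurd (Finset.mem_univ _) h
      rw [this, sub_self, map_zero]
    have := congrArg (fun E : Derivation ℤ K K => E c) hE
    exact this
  exact sub_eq_zero.1 ((Module.forall_dual_apply_eq_zero_iff K _).1 key)

/-- The value of a derivation of `Q` on the image of a polynomial. -/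
theorem apply_poly (D : Derivation ℤ Q Q) (P : MvPolynomial σ K) :
    D (π P) = ∑ e, D (π (C (F.z e))) * π (cD (F.D e) P) + ∑ i, D (π (X i)) * π (pderiv i P) := by
  classical
  induction P using MvPolynomial.induction_on with
  | C c =>
    rw [der_C π F D c]
    simp only [cD_C, pderiv_C, map_zero, mul_zero, Finset.sum_const_zero, add_zero]
  | add P P' h h' =>
    simp only [map_add, cD_add, mul_add, Finset.sum_add_distrib]
    rw [h, h']
    ring
  | mul_X P i h =>
    rw [map_mul, Derivation.leibniz, smul_eq_mul, smul_eq_mul, h]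
    simp only [cD_mul_X, Derivation.leibniz, smul_eq_mul, map_add, map_mul, mul_add, Finset.sum_add_distrib]
    have h1 : ∑ j, D (π (X j)) * (π P * π ((pderiv j) (X i : MvPolynomial σ K))) = D (π (X i)) * π P := by
      rw [Finset.sum_eq_single i]
      · rw [pderiv_X_self, map_one, mul_one]
      · intro j _ hj
        rw [pderiv_X_of_ne (Ne.symm hj), map_zero, mul_zero, mul_zero]
      · intro h; exact absurd (Finset.mem_univ _) h
    rw [h1, Finset.mul_sum, Finset.mul_sum]
    have h2 : ∑ e, D (π (C (F.z e))) * (π (cD (F.D e) P) * π (X i)) =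
        ∑ e, π (X i) * (D (π (C (F.z e))) * π (cD (F.D e) P)) := Finset.sum_congr rfl fun e _ => by ring
    have h3 : ∑ j, D (π (X j)) * (π (X i) * π ((pderiv j) P)) =
        ∑ j, π (X i) * (D (π (X j)) * π (pderiv j P)) := Finset.sum_congr rfl fun e _ => by ring
    rw [h2, h3]
    ring

/-- A derivation vanishing on the coordinates vanishes. -/
theorem ext_of (hQ : ∀ q : Q, ∃ P P', π P' ≠ 0 ∧ q * π P' = π P) (D : Derivation ℤ Q Q)
    (hC : ∀ e, D (π (C (F.z e))) = 0) (hX : ∀ i, D (π (X i)) = 0) : D = 0 := by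
  have h0 : ∀ P, D (π P) = 0 := fun P => by
    rw [apply_poly π F D P]
    simp only [hC, hX, zero_mul, Finset.sum_const_zero, add_zero]
  ext q
  obtain ⟨P, P', h', h⟩ := hQ q
  have h1 := congrArg D h
  rw [Derivation.leibniz, h0, h0, smul_zero, zero_add, smul_eq_mul] at h1
  rcases mul_eq_zero.1 h1 with h2 | h2
  · exact absurd h2 h'
  · exact h2

/-- The dual number lift. -/
noncomputable def dualC (v : C' → Q) : K →+* TrivSqZeroExt Q Q where
  toFun c := TrivSqZeroExt.inl (π (C c)) + TrivSqZeroExt.inr (∑ e, v e * π (C (F.D e c)))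
  map_one' := by
    ext
    · simp
    · simp
  map_zero' := by
    ext
    · simp
    · simp
  map_mul' a b := by
    ext
    · simp
    · simp only [TrivSqZeroExt.snd_add, TrivSqZeroExt.snd_inl, TrivSqZeroExt.snd_inr, TrivSqZeroExt.snd_mul,
        TrivSqZeroExt.fst_add, TrivSqZeroExt.fst_inl, TrivSqZeroExt.fst_inr, MulOpposite.smul_eq_mul_unop,
        MulOpposite.unop_op, zero_add, add_zero, smul_eq_mul]
      rw [Finset.mul_sum, Finset.sum_mul, ← Finset.sum_add_distrib]
      refine Finset.sum_congr rfl fun e _ => ?_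
      rw [Derivation.leibniz, smul_eq_mul, smul_eq_mul, map_add, map_add, map_mul, map_mul, map_mul, map_mul]
      ring
  map_add' a b := by
    ext
    · simp
    · simp [mul_add, Finset.sum_add_distrib]

/-- The dual number lift of the polynomial ring. -/
noncomputable def dualS (v : C' → Q) (w : σ → Q) : MvPolynomial σ K →+* TrivSqZeroExt Q Q :=
  eval₂Hom (dualC π F v) fun i => TrivSqZeroExt.inl (π (X i)) + TrivSqZeroExt.inr (w i)

omit [Fintype σ] in
theorem fst_dualS (v : C' → Q) (w : σ → Q) (P : MvPolynomial σ K) : (dualS π F v w P).fst = π P := by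
  have : ((TrivSqZeroExt.fstHom Q Q Q : TrivSqZeroExt Q Q →ₐ[Q] Q) : TrivSqZeroExt Q Q →+* Q).comp (dualS π F v w) = π := by
    refine MvPolynomial.ringHom_ext (fun c => ?_) fun i => ?_
    · simp [dualS, dualC]
    · simp [dualS]
  exact congrArg (fun f : MvPolynomial σ K →+* Q => f P) this

theorem snd_dualS (v : C' → Q) (w : σ → Q) (P : MvPolynomial σ K) : (dualS π F v w P).snd =
    ∑ e, v e * π (cD (F.D e) P) + ∑ i, w i * π (pderiv i P) := by
  classical
  induction P using MvPolynomial.induction_on with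
  | C c =>
    simp only [cD_C, pderiv_C, map_zero, mul_zero, Finset.sum_const_zero, add_zero]
    simp [dualS, dualC]
  | add P P' h h' =>
    rw [map_add, TrivSqZeroExt.snd_add]
    simp only [map_add, cD_add, mul_add, Finset.sum_add_distrib]
    rw [h, h']
    ring
  | mul_X P i h =>
    have hX : dualS π F v w (X i) = TrivSqZeroExt.inl (π (X i)) + TrivSqZeroExt.inr (w i) := by
      simp [dualS]
    rw [map_mul, TrivSqZeroExt.snd_mul, fst_dualS, fst_dualS, h, hX]
    simp only [cD_mul_X, Derivation.leibniz, smul_eq_mul, map_add, map_mul, mul_add, Finset.sum_add_distrib,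
      TrivSqZeroExt.snd_add, TrivSqZeroExt.snd_inl, TrivSqZeroExt.snd_inr, MulOpposite.smul_eq_mul_unop,
        MulOpposite.unop_op, zero_add]
    have h1 : ∑ j, w j * (π P * π ((pderiv j) (X i : MvPolynomial σ K))) = w i * π P := by
      rw [Finset.sum_eq_single i]
      · rw [pderiv_X_self, map_one, mul_one]
      · intro j _ hj
        rw [pderiv_X_of_ne (Ne.symm hj), map_zero, mul_zero, mul_zero]
      · intro h; exact absurd (Finset.mem_univ _) h
    rw [h1, add_mul, Finset.sum_mul, Finset.sum_mul]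
    have h2 : ∑ e, v e * (π (cD (F.D e) P) * π (X i)) =
        ∑ e, v e * π (cD (F.D e) P) * π (X i) := Finset.sum_congr rfl fun e _ => by ring
    have h3 : ∑ j, w j * (π (X i) * π ((pderiv j) P)) =
        ∑ j, w j * π (pderiv j P) * π (X i) := Finset.sum_congr rfl fun e _ => by ring
    rw [h2, h3]
    ring

end General

section Cone

variable {K : Type u} [Field K] {N d : ℕ} (g : Fin d → MvPolynomial (Fin (N + 1)) K) {a : Fin d → ℕ}
  (Q : Type u) [Field Q] [Algebra (A g) Q] [IsFractionRing (A g) Q]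

/-- The type of the coefficients. -/
abbrev Cf (a : Fin d → ℕ) (N : ℕ) : Type := Σ j : Fin d, {m : Fin (N + 1) →₀ ℕ // m.degree = a j}

/-- The map to the function field of the cone. -/
noncomputable abbrev toQ : MvPolynomial (Fin (N + 1)) K →+* Q := (algebraMap (A g) Q).comp (mk g)

/-- The partial derivatives of the equations. -/
noncomputable def gg (l : Fin d) : Cf a N ⊕ Fin (N + 1) → Q :=
  Sum.elim (fun jm => if l = jm.1 then toQ g Q (monomial jm.2.1 1) else 0) (fun i => toQ g Q (pderiv i (g l)))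

/-- The coordinates. -/
noncomputable def zz (F : Cf a N → K) : Cf a N ⊕ Fin (N + 1) → Q :=
  Sum.elim (fun jm => toQ g Q (C (F jm))) (fun i => toQ g Q (X i))

omit [IsFractionRing (A g) Q] in
theorem toQ_g (l : Fin d) : toQ g Q (g l) = 0 := by
  have h0 : mk g (g l) = 0 := Ideal.Quotient.eq_zero_iff_mem.2 (Ideal.subset_span ⟨l, rfl⟩)
  rw [RingHom.comp_apply, h0, map_zero]

theorem exists_div (q : Q) : ∃ P P', toQ g Q P' ≠ 0 ∧ q * toQ g Q P' = toQ g Q P := by
  obtain ⟨⟨x, s⟩, hs⟩ := IsLocalization.surj (nonZeroDivisors (A g)) q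
  obtain ⟨P, rfl⟩ := Ideal.Quotient.mk_surjective x
  obtain ⟨P', hP'⟩ := Ideal.Quotient.mk_surjective s.1
  refine ⟨P, P', ?_, ?_⟩
  · have := (IsLocalization.map_units Q s).ne_zero
    rwa [RingHom.comp_apply, show mk g P' = s.1 from hP']
  · rw [RingHom.comp_apply, RingHom.comp_apply, show mk g P' = s.1 from hP']
    exact hs

variable [Fintype (Cf a N)] [DecidableEq (Cf a N)] (F : Frame K (Cf a N))

omit [IsFractionRing (A g) Q] in
/-- The value of a derivation on the image of a polynomial. -/
theorem apply_mk (D : Derivation ℤ Q Q) (P : MvPolynomial (Fin (N + 1)) K) :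
    D (toQ g Q P) = ∑ e, D (zz g Q F.z (Sum.inl e)) * toQ g Q (cD (F.D e) P) +
      ∑ i, D (zz g Q F.z (Sum.inr i)) * toQ g Q (pderiv i P) := apply_poly (toQ g Q) F D P

omit [IsFractionRing (A g) Q] in
theorem der_ι (D : Derivation ℤ Q Q) (c : K) :
    D (toQ g Q (C c)) = ∑ e, D (zz g Q F.z (Sum.inl e)) * toQ g Q (C (F.D e c)) := der_C (toQ g Q) F D c

theorem ext (D : Derivation ℤ Q Q) (h : ∀ b, D (zz g Q F.z b) = 0) : D = 0 :=
  ext_of (toQ g Q) F (exists_div g Q) D (fun e => h (Sum.inl e)) fun i => h (Sum.inr i)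

variable (hh : ∀ j, (g j).IsHomogeneous (a j))

omit [IsFractionRing (A g) Q] in
theorem euler (D : Derivation ℤ Q Q) (h0 : ∀ e, D (zz g Q F.z (Sum.inl e)) = 0)
    (h1 : ∀ k, D (zz g Q F.z (Sum.inr k)) = zz g Q F.z (Sum.inr k)) {n : ℕ} {P : MvPolynomial (Fin (N + 1)) K}
    (hP : P.IsHomogeneous n) : D (toQ g Q P) = n * toQ g Q P := by
  rw [apply_mk g Q F D P]
  simp only [h0, zero_mul, Finset.sum_const_zero, zero_add, h1]
  have h2 : ∑ i, zz g Q F.z (Sum.inr i) * toQ g Q (pderiv i P) = toQ g Q (∑ i, X i * pderiv i P) := by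
    rw [map_sum]
    exact Finset.sum_congr rfl fun i _ => (map_mul _ _ _).symm
  rw [h2, hP.sum_X_mul_pderiv, map_nsmul, nsmul_eq_mul]

omit [IsFractionRing (A g) Q] [Fintype (Cf a N)] in
include hh in
theorem euler_tangent (l : Fin d) : ∑ i, gg (a := a) g Q l (Sum.inr i) * zz g Q F.z (Sum.inr i) = 0 := by
  have h2 : ∑ i, gg (a := a) g Q l (Sum.inr i) * zz g Q F.z (Sum.inr i) = toQ g Q (∑ i, X i * pderiv i (g l)) := by
    rw [map_sum]
    refine Finset.sum_congr rfl fun i _ => ?_
    rw [map_mul, mul_comm]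
    rfl
  rw [h2, (hh l).sum_X_mul_pderiv, map_nsmul, toQ_g, smul_zero]

variable (hF : ∀ jm, F.z jm = coeff jm.2.1 (g jm.1))

include hh hF

omit [Fintype (Cf a N)] in
theorem cD_g (e : Cf a N) (l : Fin d) : cD (F.D e) (g l) = if l = e.1 then monomial e.2.1 1 else 0 := by
  ext m
  rw [coeff_cD]
  by_cases hm : m.degree = a l
  · have h1 : coeff m (g l) = F.z ⟨l, m, hm⟩ := (hF ⟨l, m, hm⟩).symm
    rw [h1, F.dual]
    by_cases he : l = e.1
    · rw [if_pos he, coeff_monomial]
      obtain ⟨j, n, hn⟩ := e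
      change l = j at he
      subst he
      by_cases hmn : n = m
      · subst hmn
        rw [if_pos rfl, if_pos rfl]
      · rw [if_neg, if_neg hmn]
        intro h
        apply hmn
        rw [Sigma.mk.inj_iff] at h
        have := eq_of_heq h.2
        exact congrArg Subtype.val this
    · rw [if_neg he, if_neg, coeff_zero]
      rintro rfl
      exact he rfl
  · have h1 : coeff m (g l) = 0 := by
      by_contra h
      exact hm (by
        have := hh l h
        rw [Finsupp.degree_eq_weight_one]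
        exact this)
    rw [h1, map_zero]
    split_ifs with he
    · rw [coeff_monomial, if_neg]
      rintro rfl
      subst he
      exact hm e.2.2
    · rw [coeff_zero]

omit [IsFractionRing (A g) Q] in
theorem sum_gg (v : Cf a N ⊕ Fin (N + 1) → Q) (l : Fin d) : ∑ b, gg g Q l b * v b =
    ∑ e, v (Sum.inl e) * toQ g Q (cD (F.D e) (g l)) + ∑ i, v (Sum.inr i) * toQ g Q (pderiv i (g l)) := by
  rw [Fintype.sum_sum_type]
  congr 1
  · refine Finset.sum_congr rfl fun e _ => ?_
    rw [cD_g g F hh hF, mul_comm]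
    unfold gg
    rw [Sum.elim_inl]
    split_ifs
    · rfl
    · rw [map_zero]
  · exact Finset.sum_congr rfl fun i _ => by rw [mul_comm]; rfl

omit [IsFractionRing (A g) Q] in
theorem tangent (D : Derivation ℤ Q Q) (l : Fin d) : ∑ b, gg g Q l b * D (zz g Q F.z b) = 0 := by
  rw [sum_gg g Q F hh hF (fun b => D (zz g Q F.z b)) l, ← apply_mk g Q F D (g l), toQ_g, map_zero]

theorem lift (v : Cf a N ⊕ Fin (N + 1) → Q) (hv : ∀ l, ∑ b, gg g Q l b * v b = 0) :
    ∃ D : Derivation ℤ Q Q, ∀ b, D (zz g Q F.z b) = v b := by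
  let Ψ := dualS (toQ g Q) F (fun e => v (Sum.inl e)) (fun i => v (Sum.inr i))
  have h0 : ∀ P ∈ Ideal.span (Set.range g), Ψ P = 0 := by
    intro P hP
    have : Ideal.span (Set.range g) ≤ RingHom.ker Ψ := by
      rw [Ideal.span_le]
      rintro _ ⟨l, rfl⟩
      change Ψ (g l) = 0
      ext
      · rw [fst_dualS, toQ_g]; rfl
      · rw [snd_dualS, ← sum_gg g Q F hh hF v l, hv]; rfl
    exact this hP
  let ΨA : A g →+* TrivSqZeroExt Q Q := Ideal.Quotient.lift _ Ψ h0
  have hu : ∀ s : nonZeroDivisors (A g), IsUnit (ΨA s) := by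
    intro s
    rw [TrivSqZeroExt.isUnit_iff_isUnit_fst]
    obtain ⟨P, hP⟩ := Ideal.Quotient.mk_surjective s.1
    rw [← hP]
    change IsUnit (Ψ P).fst
    rw [fst_dualS, RingHom.comp_apply, show mk g P = s.1 from hP]
    exact IsLocalization.map_units Q s
  let ΨQ : Q →+* TrivSqZeroExt Q Q := IsLocalization.lift hu
  have hΨ : ∀ P, ΨQ (toQ g Q P) = Ψ P := fun P => IsLocalization.lift_eq hu _
  have hfst : ∀ q, (ΨQ q).fst = q := by
    intro q
    obtain ⟨P, P', h', h⟩ := exists_div g Q q
    have h1 := congrArg (fun x => (ΨQ x).fst) h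
    simp only [map_mul, TrivSqZeroExt.fst_mul] at h1
    rw [hΨ, hΨ, fst_dualS, fst_dualS, ← h] at h1
    exact mul_right_cancel₀ h' h1
  refine ⟨Derivation.mk' (AddMonoidHom.mk' (fun q => (ΨQ q).snd) fun x y => by
    rw [map_add, TrivSqZeroExt.snd_add]).toIntLinearMap fun x y => ?_, fun b => ?_⟩
  · change (ΨQ (x * y)).snd = x • (ΨQ y).snd + y • (ΨQ x).snd
    rw [map_mul, TrivSqZeroExt.snd_mul, hfst, hfst, MulOpposite.smul_eq_mul_unop, MulOpposite.unop_op, smul_eq_mul,
      smul_eq_mul, mul_comm y]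
  · change (ΨQ (zz g Q F.z b)).snd = v b
    rcases b with e | i
    · change (ΨQ (toQ g Q (C (F.z e)))).snd = _
      rw [hΨ, snd_dualS]
      simp only [pderiv_C, map_zero, mul_zero, Finset.sum_const_zero, add_zero, cD_C]
      rw [Finset.sum_eq_single e]
      · rw [F.dual, if_pos rfl, map_one, map_one, mul_one]
      · intro e' _ he
        rw [F.dual, if_neg he, map_zero, map_zero, mul_zero]
      · intro h; exact absurd (Finset.mem_univ _) h
    · change (ΨQ (toQ g Q (X i))).snd = _
      rw [hΨ, snd_dualS]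
      simp only [cD_X, map_zero, mul_zero, Finset.sum_const_zero, zero_add]
      rw [Finset.sum_eq_single i]
      · rw [pderiv_X_self, map_one, mul_one]
      · intro j _ hj
        rw [pderiv_X_of_ne (Ne.symm hj), map_zero, mul_zero]
      · intro h; exact absurd (Finset.mem_univ _) h

omit [IsFractionRing (A g) Q] [DecidableEq (Cf a N)] hh hF in
/-- Vectors with prescribed free coordinates. -/
theorem exists_vec (σ : Fin d → Fin (N + 1))
    (hσ : (Matrix.of fun i l : Fin d => toQ g Q (pderiv (σ l) (g i))).det ≠ 0) (v₀ : Cf a N ⊕ Fin (N + 1) → Q) :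
    ∃ v : Cf a N ⊕ Fin (N + 1) → Q, (∀ e, v (Sum.inl e) = v₀ (Sum.inl e)) ∧
      (∀ i, i ∉ Set.range σ → v (Sum.inr i) = v₀ (Sum.inr i)) ∧ ∀ l, ∑ b, gg g Q l b * v b = 0 := by
  classical
  let M : Matrix (Fin d) (Fin d) Q := Matrix.of fun i l : Fin d => toQ g Q (pderiv (σ l) (g i))
  let w : Fin d → Q := M⁻¹.mulVec fun l => - ∑ b, gg g Q l b * v₀ b
  have hw : M.mulVec w = fun l => - ∑ b, gg g Q l b * v₀ b := by
    rw [Matrix.mulVec_mulVec, Matrix.mul_nonsing_inv _ (isUnit_iff_ne_zero.2 hσ), Matrix.one_mulVec]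
  refine ⟨fun b => v₀ b + Sum.elim (fun _ => 0) (fun i => ∑ k, if σ k = i then w k else 0) b, fun e => ?_,
    fun i hi => ?_, fun l => ?_⟩
  · simp
  · change v₀ (Sum.inr i) + ∑ k, (if σ k = i then w k else 0) = v₀ (Sum.inr i)
    rw [Finset.sum_eq_zero, add_zero]
    intro k _
    rw [if_neg]
    intro h
    exact hi ⟨k, h⟩
  · simp only [mul_add, Finset.sum_add_distrib]
    have h1 : ∑ b : Cf a N ⊕ Fin (N + 1), gg g Q l b * Sum.elim (fun _ => (0 : Q)) (fun i => ∑ k, if σ k = i then w k else 0) b =
        M.mulVec w l := by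
      rw [Fintype.sum_sum_type]
      simp only [Sum.elim_inl, mul_zero, Finset.sum_const_zero, zero_add, Sum.elim_inr, Finset.mul_sum]
      rw [Finset.sum_comm]
      refine Finset.sum_congr rfl fun k _ => ?_
      simp only [mul_ite, mul_zero]
      rw [Finset.sum_ite_eq]
      rw [if_pos (Finset.mem_univ _)]
      rfl
    rw [h1, hw]
    ring

/-- Commuting lifts of the derivations of `K`. -/
theorem exists_T (p : ℕ) [Fact p.Prime] [CharP K p] (hJ : JacCond g) (hx : ∃ i, toQ g Q (X i) ≠ 0) :
    ∃ T : Cf a N → Derivation ℤ Q Q,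
      (∀ e e', T e (zz g Q F.z (Sum.inl e')) = if e = e' then 1 else 0) ∧
      (∀ e e' x, T e (T e' x) = T e' (T e x)) ∧ ∀ e x, (T e)^[p] x = 0 := by
  classical
  obtain ⟨σ, hσ⟩ := Groth.Agent.Lefpen.H718.Minor.exists_minor
    (Matrix.of fun (i : Fin d) (l : Fin (N + 1)) => toQ g Q (pderiv l (g i)))
    (hJ Q (toQ g Q) (fun i => toQ_g g Q i) hx)
  have hσ' : (Matrix.of fun i l : Fin d => toQ g Q (pderiv (σ l) (g i))).det ≠ 0 := hσ
  have hinj : Function.Injective σ := by
    intro i j hij
    by_contra hne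
    exact hσ' (Matrix.det_zero_of_column_eq hne fun k => by simp only [Matrix.of_apply, hij])
  let I := Cf a N ⊕ {i : Fin (N + 1) // i ∉ Set.range σ}
  let j : I → Cf a N ⊕ Fin (N + 1) := Sum.map id Subtype.val
  have hjinj : Function.Injective j := Sum.map_injective.2 ⟨Function.injective_id, Subtype.val_injective⟩
  have hD : ∀ b : I, ∃ D : Derivation ℤ Q Q, ∀ b' : I, D (zz g Q F.z (j b')) = if b = b' then 1 else 0 := by
    intro b
    obtain ⟨v, h1, h2, h3⟩ := exists_vec g Q σ hσ' (fun b' => if j b = b' then 1 else 0)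
    obtain ⟨D, hD⟩ := lift g Q F hh hF v h3
    refine ⟨D, fun b' => ?_⟩
    rw [hD]
    have h4 : v (j b') = if j b = j b' then 1 else 0 := by
      rcases b' with e | i
      · exact h1 e
      · exact h2 i.1 i.2
    rw [h4]
    by_cases hb : b = b'
    · rw [if_pos hb, if_pos (by rw [hb])]
    · rw [if_neg hb, if_neg (fun h => hb (hjinj h))]
  choose D hD using hD
  let Fr : Frame Q I :=
    { z := fun b => zz g Q F.z (j b)
      D := D
      dual := hD
      sep := fun E hE => by
        refine ext g Q F E fun b => ?_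
        have hC : ∀ e, E (zz g Q F.z (Sum.inl e)) = 0 := fun e => hE (Sum.inl e)
        have hX : ∀ i, i ∉ Set.range σ → E (zz g Q F.z (Sum.inr i)) = 0 := fun i hi => hE (Sum.inr ⟨i, hi⟩)
        have hv : (Matrix.of fun i l : Fin d => toQ g Q (pderiv (σ l) (g i))).mulVec
            (fun k => E (zz g Q F.z (Sum.inr (σ k)))) = 0 := by
          funext l
          have h1 := tangent g Q F hh hF E l
          rw [Fintype.sum_sum_type] at h1
          simp only [hC, mul_zero, Finset.sum_const_zero, zero_add] at h1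
          change ∑ k, gg (a := a) g Q l (Sum.inr (σ k)) * E (zz g Q F.z (Sum.inr (σ k))) = 0
          rw [← h1, ← Finset.sum_image (f := fun i => gg g Q l (Sum.inr i) * E (zz g Q F.z (Sum.inr i)))
            (g := σ) (s := Finset.univ) (fun _ _ _ _ h => hinj h)]
          refine Finset.sum_subset (Finset.subset_univ _) fun i _ hi => ?_
          rw [hX i (fun ⟨k, hk⟩ => hi (Finset.mem_image.2 ⟨k, Finset.mem_univ _, hk⟩)), mul_zero]
        have h0 := Matrix.eq_zero_of_mulVec_eq_zero hσ' hv
        rcases b with e | i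
        · exact hC e
        · by_cases hi : i ∈ Set.range σ
          · obtain ⟨k, rfl⟩ := hi
            exact congrFun h0 k
          · exact hX i hi }
  have : CharP Q p := charP_of_injective_ringHom (f := (toQ g Q).comp C) (RingHom.injective _) p
  have : Fintype I := inferInstance
  refine ⟨fun e => D (Sum.inl e), fun e e' => ?_, fun e e' x => ?_, fun e x => ?_⟩
  · rw [show zz g Q F.z (Sum.inl e') = zz g Q F.z (j (Sum.inl e')) from rfl, hD]
    by_cases h : e = e'
    · rw [if_pos h, if_pos (by rw [h])]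
    · rw [if_neg h, if_neg (fun h' => h (Sum.inl_injective h'))]
  · exact Cartier.comm Fr (Sum.inl e) (Sum.inl e') x
  · exact Cartier.iter_p Fr p (Sum.inl e) x

end Cone

end Groth.Agent.Lefpen.H411.ConeDer
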