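import Groth.Agent.Ega41.NagIter
import Mathlib.Algebra.CharP.Lemmas
import Mathlib.Algebra.Module.LinearMap.End
import Mathlib.Algebra.Algebra.Bilinear

/-!
# Jacobson's formula `(D + f)^p = D^p + D^{p-1} f + f^p` in characteristic `p`
-/

set_option autoImplicit false

namespace Groth.Agent.Lefpen.H411.Jacobson

/-- In a ring with `p = 0`: `u ^ p v - v u ^ p = ad(u)^p v`. -/
theorem pow_p_comm {E : Type*} [Ring E] {p : ℕ} (hp : p.Prime) (h0 : (p : E) = 0) (u v : E) :
    u ^ p * v - v * u ^ p = (fun w => u * w - w * u)^[p] v := by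
  let a : Module.End ℤ E := LinearMap.mulLeft ℤ u
  let b : Module.End ℤ E := - LinearMap.mulRight ℤ u
  have hab : Commute a b := by
    change a * b = b * a
    ext w
    simp [a, b, mul_assoc]
  have hp0 : (p : Module.End ℤ E) = 0 := by
    ext w
    simp only [Module.End.natCast_apply, LinearMap.zero_apply]
    rw [nsmul_eq_mul, h0, zero_mul]
  have h1 := hab.add_pow_prime_eq' hp
  rw [hp0, zero_mul, add_zero] at h1
  have ha : ∀ n (w : E), (a ^ n) w = u ^ n * w := by
    intro n
    induction n with
    | zero => simp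
    | succ n ih =>
      intro w
      rw [pow_succ, Module.End.mul_apply, ih]
      simp [a, pow_succ, mul_assoc]
  have hb : ∀ n (w : E), (b ^ n) w = (-1) ^ n * (w * u ^ n) := by
    intro n
    induction n with
    | zero => simp
    | succ n ih =>
      intro w
      rw [pow_succ, Module.End.mul_apply, ih]
      simp [b, pow_succ', mul_assoc]
  have hneg : ((-1 : E)) ^ p = -1 := by
    rcases hp.eq_two_or_odd' with h2 | hodd
    · subst h2
      have h2' : (2 : E) = 0 := by simpa using h0
      have : (1 : E) + 1 = 0 := by rw [one_add_one_eq_two]; exact h2'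
      rw [neg_one_sq]
      exact eq_neg_of_add_eq_zero_left this
    · exact hodd.neg_one_pow
  have hab' : ∀ n (w : E), ((a + b) ^ n) w = (fun w => u * w - w * u)^[n] w := by
    intro n
    induction n with
    | zero => simp
    | succ n ih =>
      intro w
      rw [pow_succ, Module.End.mul_apply, ih, Function.iterate_succ_apply]
      congr 1
      simp [a, b, sub_eq_add_neg]
  rw [← hab', h1, LinearMap.add_apply, ha, hb, hneg]
  simp [sub_eq_add_neg]

variable {A : Type*} [CommRing A] (D : Derivation ℤ A A) (f : A)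

/-- the operator `D + t f` on sequences of coefficients (of powers of `t`). -/
def U : Module.End ℤ (ℕ → A) where
  toFun a n := D (a n) + (match n with | 0 => 0 | m + 1 => f * a m)
  map_add' a b := by
    funext n
    cases n with
    | zero => simp
    | succ n => simp [mul_add]; abel
  map_smul' r a := by
    funext n
    cases n with
    | zero => simp
    | succ n => simp; ring

/-- the operator `d/dt`. -/
def V : Module.End ℤ (ℕ → A) where
  toFun a n := ((n : A) + 1) * a (n + 1)
  map_add' a b := by
    funext n
    simp [mul_add]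
  map_smul' r a := by
    funext n
    simp
    ring

/-- multiplication by a constant. -/
def M (g : A) : Module.End ℤ (ℕ → A) where
  toFun a n := g * a n
  map_add' a b := by
    funext n
    simp [mul_add]
  map_smul' r a := by
    funext n
    simp
    ring

theorem U_zero (a : ℕ → A) : U D f a 0 = D (a 0) := by simp [U]

theorem U_succ (a : ℕ → A) (n : ℕ) : U D f a (n + 1) = D (a (n + 1)) + f * a n := rfl

theorem V_apply (a : ℕ → A) (n : ℕ) : V (A := A) a n = ((n : A) + 1) * a (n + 1) := rfl

theorem M_apply (g : A) (a : ℕ → A) (n : ℕ) : M g a n = g * a n := rfl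

theorem comm_UV : U D f * V - V * U D f = M (-f) := by
  ext a n
  simp only [LinearMap.sub_apply, Module.End.mul_apply, Pi.sub_apply, M_apply]
  cases n with
  | zero =>
    rw [U_zero, V_apply, V_apply, U_succ]
    simp
  | succ n =>
    rw [U_succ, V_apply, V_apply, V_apply, U_succ]
    simp only [Derivation.leibniz, map_add, Derivation.map_natCast, Derivation.map_one_eq_zero,
      smul_eq_mul, Nat.cast_add, Nat.cast_one]
    ring

theorem comm_UM (g : A) : U D f * M g - M g * U D f = M (D g) := by
  ext a n
  simp only [LinearMap.sub_apply, Module.End.mul_apply, Pi.sub_apply, M_apply]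
  cases n with
  | zero =>
    rw [U_zero, M_apply, U_zero]
    simp [Derivation.leibniz]
    ring
  | succ n =>
    rw [U_succ, M_apply, M_apply, U_succ]
    simp [Derivation.leibniz]
    ring

theorem ad_iter (g : A) (n : ℕ) :
    (fun w => U D f * w - w * U D f)^[n] (M g) = M (D^[n] g) := by
  induction n generalizing g with
  | zero => rfl
  | succ n ih => rw [Function.iterate_succ_apply, Function.iterate_succ_apply, comm_UM, ih]

/-- the sequence `y, 0, 0, …`. -/
def e (y : A) : ℕ → A := fun n => match n with | 0 => y | _ + 1 => 0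

theorem support (y : A) (m : ℕ) : ∀ i, m < i → ((U D f) ^ m) (e y) i = 0 := by
  induction m with
  | zero =>
    intro i hi
    obtain ⟨i, rfl⟩ := Nat.exists_eq_succ_of_ne_zero hi.ne'
    rfl
  | succ m ih =>
    intro i hi
    obtain ⟨i, rfl⟩ := Nat.exists_eq_succ_of_ne_zero (by omega : i ≠ 0)
    rw [pow_succ', Module.End.mul_apply, Nat.succ_eq_add_one, U_succ, ih _ (by omega), ih _ (by omega)]
    simp

theorem coeff_zero (y : A) (m : ℕ) : ((U D f) ^ m) (e y) 0 = D^[m] y := by
  induction m with
  | zero => rfl
  | succ m ih =>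
    rw [pow_succ', Module.End.mul_apply, U_zero, ih, Function.iterate_succ_apply']

theorem coeff_top (y : A) (m : ℕ) : ((U D f) ^ m) (e y) m = f ^ m * y := by
  induction m with
  | zero => simp [e]
  | succ m ih =>
    rw [pow_succ', Module.End.mul_apply, U_succ, ih, support D f y m _ (by omega)]
    simp [pow_succ']
    ring

theorem sum_eq (y : A) (m : ℕ) :
    ∑ i ∈ Finset.range (m + 1), ((U D f) ^ m) (e y) i = (fun y => D y + f * y)^[m] y := by
  induction m with
  | zero => simp [e]
  | succ m ih =>
    rw [Function.iterate_succ_apply', ← ih, pow_succ', Finset.sum_range_succ']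
    simp only [Module.End.mul_apply, U_zero, U_succ, Finset.sum_add_distrib]
    rw [map_sum, Finset.mul_sum, Finset.sum_range_succ' (fun i => D (((U D f) ^ m) (e y) i)),
      Finset.sum_range_succ (fun i => D (((U D f) ^ m) (e y) (i + 1))),
      support D f y m _ (Nat.lt_succ_self m)]
    simp
    ring

/-- **Jacobson's formula**: `(D + f)^p = D^p + D^{p-1} f + f^p` in characteristic `p`. -/
theorem jacobson {Q : Type*} [Field Q] (D : Derivation ℤ Q Q) (f : Q) (p : ℕ) [hp : Fact p.Prime] [CharP Q p]
    (y : Q) : (fun y => D y + f * y)^[p] y = D^[p] y + (D^[p - 1] f + f ^ p) * y := by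
  have hp' : p.Prime := hp.out
  have h0 : (p : Module.End ℤ (ℕ → Q)) = 0 := by
    ext a n
    simp
  obtain ⟨q, hq⟩ := Nat.exists_eq_succ_of_ne_zero hp'.ne_zero
  have h1 := pow_p_comm hp' h0 (U D f) V
  have h2 : (fun w => U D f * w - w * U D f)^[p] V = M (D^[p - 1] (-f)) := by
    rw [hq, Function.iterate_succ_apply, comm_UV, ad_iter]
    rfl
  rw [h2] at h1
  have h3 := congrArg (fun w : Module.End ℤ (ℕ → Q) => w (e y)) h1
  have hV : V (A := Q) (e y) = 0 := by
    funext n
    simp [V_apply, e]
  simp only [LinearMap.sub_apply, Module.End.mul_apply, hV, map_zero, zero_sub] at h3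
  -- coefficients
  have hneg : D^[p - 1] (-f) = - D^[p - 1] f := by
    have := Ega41.NagIter.iterate_smul (R := ℤ) D (p - 1) (-1) f
    rw [neg_one_smul, neg_one_smul] at this
    exact this
  have h4 : ∀ n : ℕ, ((n : Q) + 1) * ((U D f) ^ p) (e y) (n + 1) = D^[p - 1] f * e y n := by
    intro n
    have := congrFun h3 n
    rw [Pi.neg_apply, V_apply, M_apply, hneg, neg_mul] at this
    exact neg_injective this
  have h5 : ∀ i, 1 < i → i < p → ((U D f) ^ p) (e y) i = 0 := by
    intro i hi1 hip
    obtain ⟨j, rfl⟩ : ∃ j, i = j + 2 := ⟨i - 2, by omega⟩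
    have h := h4 (j + 1)
    have he : e y (j + 1) = 0 := rfl
    rw [he, mul_zero, mul_eq_zero] at h
    refine h.resolve_left fun h' => ?_
    have h6 : ((j + 2 : ℕ) : Q) = 0 := by push_cast at h' ⊢; rw [← h']; ring
    rw [CharP.cast_eq_zero_iff Q p] at h6
    exact absurd (Nat.le_of_dvd (by omega) h6) (by omega)
  have h6 : ((U D f) ^ p) (e y) 1 = D^[p - 1] f * y := by
    have h := h4 0
    have he : e y 0 = y := rfl
    rw [he] at h
    simpa using h
  rw [← sum_eq, Finset.sum_range_succ, coeff_top, Finset.sum_range_eq_add_Ico _ hp'.pos, coeff_zero,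
    Finset.sum_eq_single_of_mem 1 (Finset.mem_Ico.2 ⟨le_rfl, hp'.one_lt⟩), h6]
  · ring
  · intro i hi hi1
    rw [Finset.mem_Ico] at hi
    exact h5 i (by omega) hi.2

end Groth.Agent.Lefpen.H411.Jacobson
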