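import Groth.Agent.Ega41.SepExt
import Mathlib.RingTheory.Derivation.ToSquareZero
import Mathlib.RingTheory.Smooth.Basic
import Mathlib.RingTheory.LocalRing.ResidueField.Basic
import Mathlib.RingTheory.Localization.AtPrime.Basic
import Mathlib.Algebra.Algebra.ZMod
import Mathlib.Algebra.CharP.LocalRing

/-!
# Derivations of a local ring of characteristic `p` into the residue field, nonzero on a uniformizer
-/

set_option autoImplicit false

universe u

namespace Groth.Agent.Lefpen.H411.Uniformizer

open IsLocalRing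

/-- A local ring of characteristic `p` has, for every `π ∈ 𝔪 ∖ 𝔪²`, a derivation into a module killed
by `𝔪` which does not kill `π`. -/
theorem exists_derivation (P : Type u) [CommRing P] [IsLocalRing P] (p : ℕ) [Fact p.Prime] [CharP P p]
    (π : P) (h1 : π ∈ maximalIdeal P) (h2 : π ∉ maximalIdeal P ^ 2) :
    ∃ (N : Type u) (_ : AddCommGroup N) (_ : Module P N) (δ : Derivation ℤ P N),
      (∀ x ∈ maximalIdeal P, ∀ n : N, x • n = 0) ∧ δ π ≠ 0 := by
  let κ := ResidueField P
  haveI : CharP κ p := by
    have h0 : ((p : ℕ) : κ) = 0 := by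
      rw [← map_natCast (residue P), CharP.cast_eq_zero, map_zero]
    exact (CharP.charP_iff_prime_eq_zero Fact.out).2 h0
  letI : Algebra (ZMod p) P := ZMod.algebra P p
  letI : Algebra (ZMod p) κ := ZMod.algebra κ p
  haveI := Groth.Agent.Ega41.SepExt.formallySmooth_of_perfectField (ZMod p) κ
  let C := P ⧸ (maximalIdeal P ^ 2)
  let g0 : C →+* κ := Ideal.Quotient.lift (maximalIdeal P ^ 2) (residue P) (fun x hx => by
    rw [residue_eq_zero_iff]
    exact Ideal.pow_le_self two_ne_zero hx)
  have hg0 : ∀ r, g0 (algebraMap (ZMod p) C r) = algebraMap (ZMod p) κ r := fun r =>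
    DFunLike.congr_fun (Subsingleton.elim (g0.comp (algebraMap (ZMod p) C))
      (algebraMap (ZMod p) κ)) r
  let g : C →ₐ[ZMod p] κ := { toRingHom := g0, commutes' := hg0 }
  have hgmk : ∀ x : P, g (Ideal.Quotient.mk _ x) = residue P x := fun x => rfl
  have hgs : Function.Surjective g := by
    intro y
    obtain ⟨x, rfl⟩ := residue_surjective y
    exact ⟨Ideal.Quotient.mk _ x, rfl⟩
  let I : Ideal C := RingHom.ker (g : C →+* κ)
  have hmemI : ∀ c : C, c ∈ I → ∃ x ∈ maximalIdeal P, Ideal.Quotient.mk _ x = c := by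
    intro c hc
    obtain ⟨x, rfl⟩ := Ideal.Quotient.mk_surjective c
    refine ⟨x, ?_, rfl⟩
    rw [← residue_eq_zero_iff]
    exact hc
  have hI : I ^ 2 = ⊥ := by
    refine (sq I).trans (eq_bot_iff.2 ?_)
    rw [Ideal.mul_le]
    intro a ha b hb
    obtain ⟨x, hx, rfl⟩ := hmemI a ha
    obtain ⟨y, hy, rfl⟩ := hmemI b hb
    rw [Ideal.mem_bot, ← map_mul, Ideal.Quotient.eq_zero_iff_mem, pow_two]
    exact Ideal.mul_mem_mul hx hy
  let s : κ →ₐ[ZMod p] C := Algebra.FormallySmooth.liftOfSurjective (AlgHom.id (ZMod p) κ) g hgs ⟨2, hI⟩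
  have hs : ∀ y, g (s y) = y := fun y =>
    Algebra.FormallySmooth.liftOfSurjective_apply (AlgHom.id (ZMod p) κ) g hgs ⟨2, hI⟩ y
  let f : P →ₐ[ℤ] C := (s.toRingHom.comp (residue P)).toIntAlgHom
  have hf : ∀ x, f x = s (residue P x) := fun x => rfl
  haveI : IsScalarTower ℤ P C := AddCommGroup.intIsScalarTower
  have he : (Ideal.Quotient.mkₐ ℤ I).comp f = IsScalarTower.toAlgHom ℤ P (C ⧸ I) := by
    ext x
    change Ideal.Quotient.mk I (f x) = Ideal.Quotient.mk I (Ideal.Quotient.mk _ x)
    rw [Ideal.Quotient.eq, RingHom.mem_ker]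
    change g (f x - Ideal.Quotient.mk _ x) = 0
    rw [map_sub, hf, hs, hgmk, sub_self]
  let δ : Derivation ℤ P I := derivationToSquareZeroOfLift I hI f he
  have hδ : ∀ x, ((δ x : I) : C) = f x - algebraMap P C x :=
    fun x => derivationToSquareZeroOfLift_apply I hI f he x
  refine ⟨I, inferInstance, inferInstance, δ, ?_, ?_⟩
  · intro x hx n
    apply Subtype.ext
    obtain ⟨y, hy, hyn⟩ := hmemI n.1 n.2
    change x • n.1 = 0
    rw [← hyn]
    change Ideal.Quotient.mk _ (x * y) = 0
    rw [Ideal.Quotient.eq_zero_iff_mem, pow_two]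
    exact Ideal.mul_mem_mul hx hy
  · intro h
    have h3 := congrArg Subtype.val h
    rw [hδ, hf, (residue_eq_zero_iff π).2 h1, map_zero, zero_sub] at h3
    have h4 : Ideal.Quotient.mk (maximalIdeal P ^ 2) π = 0 := by
      have h5 : -(algebraMap P C π) = 0 := h3
      rw [neg_eq_zero] at h5
      exact h5
    exact h2 (Ideal.Quotient.eq_zero_iff_mem.1 h4)

theorem exists_derivation_aux (B : Type u) [CommRing B] [IsDomain B] (p : ℕ) [Fact p.Prime] [CharP B p]
    (π : B) (hπ : Prime π) [(Ideal.span {π}).IsPrime] (P : Type u) [CommRing P] [Algebra B P]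
    [IsLocalization.AtPrime P (Ideal.span {π})] [IsLocalRing P] [IsDomain P] :
    ∃ (N : Type u) (_ : AddCommGroup N) (_ : Module B N) (δ : Derivation ℤ B N),
      (∀ n : N, π • n = 0) ∧ δ π ≠ 0 := by
  have hinj : Function.Injective (algebraMap B P) :=
    IsLocalization.injective P (Ideal.primeCompl_le_nonZeroDivisors (Ideal.span {π}))
  haveI : CharP P p := charP_of_injective_algebraMap hinj p
  have hmax : maximalIdeal P = Ideal.span {algebraMap B P π} := by
    rw [← IsLocalization.AtPrime.map_eq_maximalIdeal (Ideal.span {π}) P, Ideal.map_span,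
      Set.image_singleton]
  have hmem : algebraMap B P π ∈ maximalIdeal P := by
    rw [hmax]
    exact Ideal.mem_span_singleton_self _
  have hne : algebraMap B P π ≠ 0 := by
    intro h
    exact hπ.ne_zero (hinj (by rw [h, map_zero]))
  have hnot : algebraMap B P π ∉ maximalIdeal P ^ 2 := by
    intro h
    rw [hmax, Ideal.span_singleton_pow, Ideal.mem_span_singleton] at h
    obtain ⟨c, hc⟩ := h
    have h1 : algebraMap B P π * (1 - algebraMap B P π * c) = 0 := by
      rw [mul_sub, mul_one, sub_eq_zero]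
      conv_lhs => rw [hc]
      ring
    have h2 := (mul_eq_zero.1 h1).resolve_left hne
    rw [sub_eq_zero] at h2
    have h3 : IsUnit (algebraMap B P π) := IsUnit.of_mul_eq_one c h2.symm
    exact (mem_maximalIdeal _).1 hmem h3
  obtain ⟨N, _, _, δ, hN, hδ⟩ := exists_derivation P p (algebraMap B P π) hmem hnot
  letI : Module B N := Module.compHom N (algebraMap B P)
  haveI : IsScalarTower B P N := ⟨fun b x n => by
    rw [Algebra.smul_def, mul_smul]
    rfl⟩
  refine ⟨N, inferInstance, inferInstance, δ.compAlgebraMap B, ?_, hδ⟩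
  intro n
  exact hN _ hmem n

/-- A domain of characteristic `p` has, for every prime element `π`, a derivation into a module killed
by `π` which does not kill `π`. -/
theorem exists_derivation_prime (B : Type u) [CommRing B] [IsDomain B] (p : ℕ) [Fact p.Prime] [CharP B p]
    (π : B) (hπ : Prime π) :
    ∃ (N : Type u) (_ : AddCommGroup N) (_ : Module B N) (δ : Derivation ℤ B N),
      (∀ n : N, π • n = 0) ∧ δ π ≠ 0 := by
  haveI : (Ideal.span {π}).IsPrime := (Ideal.span_singleton_prime hπ.ne_zero).2 hπ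
  haveI : IsDomain (Localization.AtPrime (Ideal.span {π})) :=
    IsLocalization.isDomain_localization (Ideal.primeCompl_le_nonZeroDivisors (Ideal.span {π}))
  exact exists_derivation_aux B p π hπ (Localization.AtPrime (Ideal.span {π}))

end Groth.Agent.Lefpen.H411.Uniformizer
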