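import Groth.Agent.Lefpen.H411.Cartier
import Groth.Agent.Lefpen.H411.Uniformizer
import Mathlib.RingTheory.UniqueFactorizationDomain.Basic
import Mathlib.RingTheory.IntegralClosure.IntegrallyClosed
import Mathlib.RingTheory.Kaehler.Basic

/-!
# Regular forms, the Cartier operator and logarithmic forms at a factorial local ring
-/

set_option autoImplicit false

open Groth.Agent.Lefpen.H725.Frame

namespace Groth.Agent.Lefpen.H411.Regular

variable {Q : Type*} [Field Q] {ι : Type*} [DecidableEq ι] [Fintype ι]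

/-- The Cartier coefficients of a closed form which is regular on a normal domain are regular. -/
theorem cartier_regular (F : Frame Q ι) (p : ℕ) [Fact p.Prime] [CharP Q p]
    {B : Type*} [CommRing B] [IsDomain B] [IsIntegrallyClosed B] [Algebra B Q] [IsFractionRing B Q]
    (hD : ∀ i (b : B), ∃ b' : B, algebraMap B Q b' = F.D i (algebraMap B Q b))
    (b g : Q) (i : ι) (a : B) (ha : algebraMap B Q a = b ^ p * F.z i ^ (p - 1) + F.D i g) :
    ∃ b' : B, algebraMap B Q b' = b := by
  have h1 : ∀ n (x : B), ∃ y : B, algebraMap B Q y = (F.D i)^[n] (algebraMap B Q x) := by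
    intro n
    induction n with
    | zero => intro x; exact ⟨x, rfl⟩
    | succ n ih =>
      intro x
      obtain ⟨y, hy⟩ := hD i x
      obtain ⟨w, hw⟩ := ih y
      exact ⟨w, by rw [Function.iterate_succ_apply, ← hy, hw]⟩
  obtain ⟨y, hy⟩ := h1 (p - 1) a
  rw [ha, Cartier.coeff] at hy
  apply IsIntegrallyClosed.exists_algebraMap_eq_of_isIntegral_pow (R := B) (n := p)
    (Fact.out : p.Prime).pos
  have h2 : b ^ p = algebraMap B Q (-y) := by rw [map_neg, hy, neg_neg]
  rw [h2]
  exact isIntegral_algebraMap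

/-- For a logarithmic form `x⁻¹ dx` regular on a factorial domain `B` whose differentials are generated by
`dz_i` (dual to the frame), `x` is a unit times a `p`-th power; integral case. -/
theorem exists_unit_mul_pow_aux (F : Frame Q ι) (p : ℕ) [Fact p.Prime] [CharP Q p]
    {B : Type*} [CommRing B] [IsDomain B] [UniqueFactorizationMonoid B] [Algebra B Q]
    [IsFractionRing B Q] [CharP B p] (z : ι → B) (hz : ∀ i, algebraMap B Q (z i) = F.z i)
    (D : ι → Derivation ℤ B B) (hD : ∀ i b, algebraMap B Q (D i b) = F.D i (algebraMap B Q b))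
    (hspan : Submodule.span B (Set.range fun i => KaehlerDifferential.D ℤ B (z i)) = ⊤)
    (y : B) (hy : y ≠ 0) (hlog : ∀ i, y ∣ D i y) :
    ∃ (u : Bˣ) (h : B), y = u * h ^ p := by
  have hp : p.Prime := Fact.out
  have hdual : ∀ i j, D i (z j) = if i = j then 1 else 0 := by
    intro i j
    apply IsFractionRing.injective B Q
    rw [hD, hz, F.dual]
    split_ifs <;> simp
  -- a prime element does not divide all its derivatives
  have hprime : ∀ π : B, Prime π → ¬ ∀ i, π ∣ D i π := by
    intro π hπ hall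
    obtain ⟨N, _, _, δ, hN, hδ⟩ := Uniformizer.exists_derivation_prime B p π hπ
    apply hδ
    have h1 : KaehlerDifferential.D ℤ B π ∈
        Submodule.span B (Set.range fun i => KaehlerDifferential.D ℤ B (z i)) := by
      rw [hspan]; trivial
    obtain ⟨c, hc⟩ := (Submodule.mem_span_range_iff_exists_fun B).1 h1
    have h2 : ∀ j, D j π = c j := by
      intro j
      have := congrArg (D j).liftKaehlerDifferential hc
      rw [map_sum, Derivation.liftKaehlerDifferential_comp_D] at this
      rw [← this, Finset.sum_eq_single j]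
      · rw [map_smul, Derivation.liftKaehlerDifferential_comp_D, hdual, if_pos rfl, smul_eq_mul, mul_one]
      · intro k _ hk
        rw [map_smul, Derivation.liftKaehlerDifferential_comp_D, hdual, if_neg (Ne.symm hk), smul_zero]
      · intro h; exact absurd (Finset.mem_univ j) h
    have h3 := congrArg δ.liftKaehlerDifferential hc
    rw [map_sum, Derivation.liftKaehlerDifferential_comp_D] at h3
    rw [← h3]
    apply Finset.sum_eq_zero
    intro j _
    rw [map_smul, Derivation.liftKaehlerDifferential_comp_D, ← h2]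
    obtain ⟨w, hw⟩ := hall j
    rw [hw, mul_comm, mul_smul, hN, smul_zero]
  revert hy hlog
  refine IsWellFounded.induction (DvdNotUnit (α := B)) (motive := fun y => y ≠ 0 → (∀ i, y ∣ D i y) →
    ∃ (u : Bˣ) (h : B), y = u * h ^ p) y ?_
  intro y ih hy hlog
  by_cases hu : IsUnit y
  · obtain ⟨u, rfl⟩ := hu
    exact ⟨u, 1, by simp⟩
  obtain ⟨π, hπirr, hπy⟩ := WfDvdMonoid.exists_irreducible_factor hu hy
  have hπ : Prime π := UniqueFactorizationMonoid.irreducible_iff_prime.1 hπirr
  obtain ⟨m, s, hs, hys⟩ := WfDvdMonoid.max_power_factor hy hπirr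
  have hm0 : m ≠ 0 := by
    rintro rfl
    rw [pow_zero, one_mul] at hys
    exact hs (hys ▸ hπy)
  have hs0 : s ≠ 0 := by
    rintro rfl
    exact hs (dvd_zero _)
  -- `p` divides `m`
  have hpm : p ∣ m := by
    by_contra hpm
    apply hprime π hπ
    intro i
    obtain ⟨w, hw⟩ := hlog i
    rw [hys, Derivation.leibniz, Derivation.leibniz_pow] at hw
    simp only [smul_eq_mul, nsmul_eq_mul] at hw
    obtain ⟨q, rfl⟩ := Nat.exists_eq_succ_of_ne_zero hm0
    rw [Nat.succ_sub_one, pow_succ] at hw
    have h1 : π ^ q * (π * D i s + s * ((q.succ : B) * D i π)) = π ^ q * (π * s * w) := by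
      linear_combination hw
    have h2 := mul_left_cancel₀ (pow_ne_zero q hπ.ne_zero) h1
    have h3 : π ∣ s * ((q.succ : B) * D i π) := by
      refine ⟨s * w - D i s, ?_⟩
      linear_combination h2
    have h4 := (hπ.dvd_or_dvd h3).resolve_left hs
    have hunit : IsUnit ((q.succ : ℕ) : B) := by
      obtain ⟨r, hr⟩ : ∃ r : ℤ, (p : ℤ) ∣ (q.succ * r - 1) := by
        have hc : Nat.Coprime q.succ p := (hp.coprime_iff_not_dvd.2 hpm).symm
        have := Nat.isCoprime_iff_coprime.2 hc
        obtain ⟨a, b, hab⟩ := this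
        exact ⟨a, -b, by linear_combination hab⟩
      refine IsUnit.of_mul_eq_one (r : B) ?_
      have h5 := (CharP.intCast_eq_zero_iff B p _).2 hr
      push_cast at h5
      push_cast
      linear_combination h5
    rcases hπ.dvd_or_dvd h4 with h5 | h5
    · exact absurd (isUnit_of_dvd_unit h5 hunit) hπ.not_unit
    · exact h5
  obtain ⟨t, rfl⟩ := hpm
  have ht0 : t ≠ 0 := by rintro rfl; exact hm0 (mul_zero p)
  obtain ⟨u, h, hh⟩ := ih s ⟨hs0, π ^ (p * t), fun hunit => hπ.not_unit
    ((isUnit_pow_iff hm0).1 hunit), by rw [hys, mul_comm]⟩ hs0 (by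
      intro i
      obtain ⟨w, hw⟩ := hlog i
      refine ⟨w, ?_⟩
      rw [hys, Derivation.leibniz, Derivation.leibniz_pow] at hw
      simp only [smul_eq_mul, nsmul_eq_mul, Nat.cast_mul, CharP.cast_eq_zero, zero_mul, mul_zero,
        add_zero] at hw
      exact mul_left_cancel₀ (pow_ne_zero _ hπ.ne_zero) (by rw [hw]; ring))
  refine ⟨u, π ^ t * h, ?_⟩
  rw [hys, hh]
  ring

/-- For a logarithmic form `x⁻¹ dx` regular on a factorial domain `B` whose differentials are generated by
`dz_i` (dual to the frame), `x` is a unit times a `p`-th power. -/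
theorem exists_unit_mul_pow (F : Frame Q ι) (p : ℕ) [Fact p.Prime] [CharP Q p]
    {B : Type*} [CommRing B] [IsDomain B] [UniqueFactorizationMonoid B] [Algebra B Q]
    [IsFractionRing B Q] (z : ι → B) (hz : ∀ i, algebraMap B Q (z i) = F.z i)
    (hD : ∀ i (b : B), ∃ b' : B, algebraMap B Q b' = F.D i (algebraMap B Q b))
    (hspan : Submodule.span B (Set.range fun i => KaehlerDifferential.D ℤ B (z i)) = ⊤)
    (x : Q) (hx : x ≠ 0) (hlog : ∀ i, ∃ b : B, algebraMap B Q b = F.D i x / x) :
    ∃ (u : Bˣ) (h : Q), h ≠ 0 ∧ x = algebraMap B Q u * h ^ p := by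
  have hp : p.Prime := Fact.out
  have hinj := IsFractionRing.injective B Q
  haveI : CharP B p := (RingHom.charP_iff (algebraMap B Q) hinj p).2 inferInstance
  choose D0 hD0 using hD
  let D : ι → Derivation ℤ B B := fun i => Derivation.mk' ({
      toFun := D0 i
      map_add' := fun a b => hinj (by rw [map_add, hD0, hD0, hD0, map_add, map_add])
      map_smul' := fun r a => hinj (by
        rw [hD0, RingHom.id_apply, map_zsmul, map_zsmul, map_zsmul, hD0]) } : B →ₗ[ℤ] B)
      (fun a b => hinj (by
        simp only [LinearMap.coe_mk, AddHom.coe_mk, smul_eq_mul]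
        rw [hD0, map_mul, Derivation.leibniz, map_add, map_mul, map_mul, hD0, hD0]
        rfl))
  have hD : ∀ i b, algebraMap B Q (D i b) = F.D i (algebraMap B Q b) := fun i b => hD0 i b
  obtain ⟨⟨a, s⟩, hs⟩ := IsLocalization.surj (nonZeroDivisors B) x
  have hs0 : (s : B) ≠ 0 := nonZeroDivisors.coe_ne_zero s
  have hsQ : algebraMap B Q s ≠ 0 := by
    rw [Ne, ← map_zero (algebraMap B Q)]
    exact fun h => hs0 (hinj h)
  simp only at hs
  have ha0 : a ≠ 0 := by
    rintro rfl
    rw [map_zero] at hs
    exact (mul_ne_zero hx hsQ) hs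
  let y : B := a * (s : B) ^ (p - 1)
  have hy0 : y ≠ 0 := mul_ne_zero ha0 (pow_ne_zero _ hs0)
  have hyx : algebraMap B Q y = x * algebraMap B Q s ^ p := by
    change algebraMap B Q (a * (s : B) ^ (p - 1)) = _
    rw [map_mul, map_pow, ← hs, mul_assoc, ← pow_succ', Nat.sub_add_cancel hp.one_le]
  have hlog' : ∀ i, y ∣ D i y := by
    intro i
    obtain ⟨b, hb⟩ := hlog i
    refine ⟨b, hinj ?_⟩
    rw [hD, map_mul (algebraMap B Q) y b, hyx, hb, Derivation.leibniz, Cartier.pow_const p (F.D i), smul_zero,
      zero_add, smul_eq_mul]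
    field_simp
  obtain ⟨u, h, huh⟩ := exists_unit_mul_pow_aux F p z hz D hD hspan y hy0 hlog'
  refine ⟨u, algebraMap B Q h / algebraMap B Q s, ?_, ?_⟩
  · apply div_ne_zero _ hsQ
    intro h0
    apply hy0
    have : h = 0 := hinj (by rw [h0, map_zero])
    rw [huh, this, zero_pow hp.ne_zero, mul_zero]
  · rw [div_pow, ← mul_div_assoc, ← map_pow, ← map_mul, ← huh, hyx]
    field_simp

end Groth.Agent.Lefpen.H411.Regular
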